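/- Points of affine schemes over a ring, points of base changes, and the diagonalisable group (helper57). -/
import Groth.Prelude.Def_CoactBr
import Groth.Prelude.Def_Red
import Mathlib

set_option autoImplicit false

universe u

open CategoryTheory MonoidalCategory CartesianMonoidalCategory MonObj AlgebraicGeometry
  CategoryTheory.Limits Opposite
open scoped TensorProduct

noncomputable section

namespace Groth.AlgGrp2

/-- `Spec` is braided monoidal, at the spelling `CommRingCat.of R`. -/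
local instance braidedAlgSpecAt (R : Type u) [CommRing R] : (algSpec (CommRingCat.of R)).Braided :=
  braidedAlgSpec

/-! ### points of affine schemes -/

lemma pt_surjective {R B K : Type u} [CommRing R] [CommRing B] [CommRing K] [Algebra R B] [Algebra R K]
    (x : CoactBr.sp R K ⟶ CoactBr.sp R B) : ∃ φ : B →ₐ[R] K, CoactBr.pt φ = x := by
  obtain ⟨f, hf⟩ := (algSpec.fullyFaithful (R := CommRingCat.of R)).map_bijective
    (op (CommAlgCat.of R K)) (op (CommAlgCat.of R B)) |>.2 x
  exact ⟨f.unop.hom, hf⟩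

/-- Multiplicativity can be tested on affine points. -/
lemma isMonHom_of_pt {R A : Type u} [CommRing R] [CommRing A] [HopfAlgebra R A]
    {G : Over (Spec (CommRingCat.of R))} [GrpObj G] (f : CoactBr.sp R A ⟶ G)
    (h : ∀ g h : CoactBr.sp R (A ⊗[R] A) ⟶ CoactBr.sp R A, (g * h) ≫ f = (g ≫ f) * (h ≫ f)) :
    IsMonHom f := by
  let e : CoactBr.sp R A ⊗ CoactBr.sp R A ≅ CoactBr.sp R (A ⊗[R] A) :=
    Functor.Monoidal.μIso (algSpec (CommRingCat.of R)) (op (.of R A)) (op (.of R A))
  have key : μ ≫ f = (f ⊗ₘ f) ≫ μ := by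
    rw [← cancel_epi e.inv]
    have h' := h (e.inv ≫ fst _ _) (e.inv ≫ snd _ _)
    rw [← MonObj.comp_mul] at h'
    simp only [Category.assoc] at h'
    rw [← MonObj.comp_mul] at h'
    simpa [Hom.mul_def, lift_fst_snd, CartesianMonoidalCategory.lift_fst_comp_snd_comp] using h'
  refine ⟨?_, key⟩
  have h1 : (1 : 𝟙_ _ ⟶ CoactBr.sp R A) ≫ f = ((1 : 𝟙_ _ ⟶ CoactBr.sp R A) ≫ f) * ((1 : 𝟙_ _ ⟶ CoactBr.sp R A) ≫ f) := by
    have := congrArg (fun t => lift (1 : 𝟙_ _ ⟶ CoactBr.sp R A) 1 ≫ t) key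
    simpa [← Category.assoc, ← Hom.mul_def, lift_map] using this
  have := left_eq_mul.mp h1
  rw [Hom.one_def, Hom.one_def, toUnit_unique (toUnit (𝟙_ (Over (Spec (CommRingCat.of R))))) (𝟙 _), Category.id_comp, Category.id_comp] at this
  exact this

/-! ### points of base changes -/

section BC

variable {S S' : Scheme.{u}} (f : S' ⟶ S)

/-- A point of a base change is a point of the original group over `S`. -/
def bcPt {G : Over S} {T : Over S'} (t : T ⟶ Red.bc f G) : (Over.map f).obj T ⟶ G :=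
  ((Over.mapPullbackAdj f).homEquiv T G).symm t

/-- Inverse of `bcPt`. -/
def bcPtInv {G : Over S} {T : Over S'} (t : (Over.map f).obj T ⟶ G) : T ⟶ Red.bc f G :=
  (Over.mapPullbackAdj f).homEquiv T G t

@[simp] lemma bcPt_bcPtInv {G : Over S} {T : Over S'} (t : (Over.map f).obj T ⟶ G) :
    bcPt f (bcPtInv f t) = t := Equiv.symm_apply_apply _ _

@[simp] lemma bcPtInv_bcPt {G : Over S} {T : Over S'} (t : T ⟶ Red.bc f G) :
    bcPtInv f (bcPt f t) = t := Equiv.apply_symm_apply _ _

lemma bcPt_injective {G : Over S} {T : Over S'} : Function.Injective (bcPt f (G := G) (T := T)) :=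
  Equiv.injective _

lemma bcPt_comp {G : Over S} {T T' : Over S'} (x : T' ⟶ T) (t : T ⟶ Red.bc f G) :
    bcPt f (x ≫ t) = (Over.map f).map x ≫ bcPt f t :=
  (Over.mapPullbackAdj f).homEquiv_naturality_left_symm x t

lemma bcPt_comp_map {G H : Over S} {T : Over S'} (t : T ⟶ Red.bc f G) (g : G ⟶ H) :
    bcPt f (t ≫ (Over.pullback f).map g) = bcPt f t ≫ g :=
  (Over.mapPullbackAdj f).homEquiv_naturality_right_symm t g

lemma bcPt_mul {G : Over S} [GrpObj G] {T : Over S'} (s t : T ⟶ Red.bc f G) :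
    bcPt f (s * t) = bcPt f s * bcPt f t := by
  apply ((Over.mapPullbackAdj f).homEquiv T G).injective
  rw [bcPt, Equiv.apply_symm_apply]
  simp only [Adjunction.homEquiv_unit, Functor.map_mul, MonObj.comp_mul]
  rw [← Adjunction.homEquiv_unit, ← Adjunction.homEquiv_unit]
  simp [bcPt]

/-- `bcPt` as a monoid hom. -/
def bcPtHom (G : Over S) [GrpObj G] (T : Over S') : (T ⟶ Red.bc f G) →* ((Over.map f).obj T ⟶ G) :=
  MonoidHom.mk' (bcPt f) (bcPt_mul f)

lemma bcPt_one {G : Over S} [GrpObj G] {T : Over S'} : bcPt f (1 : T ⟶ Red.bc f G) = 1 :=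
  map_one (bcPtHom f G T)

lemma bcPt_inv {G : Over S} [GrpObj G] {T : Over S'} (t : T ⟶ Red.bc f G) :
    bcPt f t⁻¹ = (bcPt f t)⁻¹ :=
  map_inv (bcPtHom f G T) t

end BC

section Tower

variable (R K L : Type u) [CommRing R] [CommRing K] [CommRing L] [Algebra R K] [Algebra K L] [Algebra R L]
  [IsScalarTower R K L]

/-- The structure morphism `Spec K ⟶ Spec R`. -/
abbrev str : Spec (CommRingCat.of K) ⟶ Spec (CommRingCat.of R) :=
  Spec.map (CommRingCat.ofHom (algebraMap R K))

/-- `Spec L` over `K`, pushed to `R`. -/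
def mapSpIso : (Over.map (str R K)).obj (CoactBr.sp K L) ≅ CoactBr.sp R L :=
  Over.isoMk (Iso.refl _) (by
    show 𝟙 _ ≫ Spec.map (CommRingCat.ofHom (algebraMap R L)) =
      Spec.map (CommRingCat.ofHom (algebraMap K L)) ≫ Spec.map (CommRingCat.ofHom (algebraMap R K))
    rw [Category.id_comp, ← Spec.map_comp, ← CommRingCat.ofHom_comp, ← IsScalarTower.algebraMap_eq])

variable {R K L}

lemma mapSpIso_natural {L' : Type u} [CommRing L'] [Algebra K L'] [Algebra R L'] [IsScalarTower R K L']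
    (φ : L →ₐ[K] L') :
    (Over.map (str R K)).map (CoactBr.pt φ) ≫ (mapSpIso R K L).hom =
      (mapSpIso R K L').hom ≫ CoactBr.pt (φ.restrictScalars R) := by
  ext1
  show Spec.map (CommRingCat.ofHom (φ : L →+* L')) ≫ 𝟙 _ = 𝟙 _ ≫ Spec.map (CommRingCat.ofHom (φ : L →+* L'))
  rw [Category.comp_id, Category.id_comp]

end Tower

/-- The point of a base change along `Spec K ⟶ Spec R` as a point of the original object. -/
def affPt (R : Type u) [CommRing R] {K L : Type u} [CommRing K] [CommRing L] [Algebra R K] [Algebra K L]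
    [Algebra R L] [IsScalarTower R K L] {G : Over (Spec (CommRingCat.of R))}
    (t : CoactBr.sp K L ⟶ Red.bc (str R K) G) : CoactBr.sp R L ⟶ G :=
  (mapSpIso R K L).inv ≫ bcPt (str R K) t

section AffPt

variable {R : Type u} [CommRing R] {K L L' : Type u} [CommRing K] [CommRing L] [CommRing L']
  [Algebra R K] [Algebra K L] [Algebra R L] [IsScalarTower R K L]
  [Algebra K L'] [Algebra R L'] [IsScalarTower R K L'] {G H : Over (Spec (CommRingCat.of R))}

lemma affPt_injective : Function.Injective (affPt R (K := K) (L := L) (G := G)) := fun s t h =>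
  bcPt_injective _ ((cancel_epi _).mp h)

lemma affPt_comp (φ : L →ₐ[K] L') (t : CoactBr.sp K L ⟶ Red.bc (str R K) G) :
    affPt R (CoactBr.pt φ ≫ t) = CoactBr.pt (φ.restrictScalars R) ≫ affPt R t := by
  rw [affPt, affPt, bcPt_comp, ← Category.assoc, ← Category.assoc]
  congr 1

lemma affPt_comp_map (t : CoactBr.sp K L ⟶ Red.bc (str R K) G) (g : G ⟶ H) :
    affPt R (t ≫ (Over.pullback (str R K)).map g) = affPt R t ≫ g := by
  rw [affPt, affPt, bcPt_comp_map, Category.assoc]

lemma affPt_mul [GrpObj G] (s t : CoactBr.sp K L ⟶ Red.bc (str R K) G) :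
    affPt R (s * t) = affPt R s * affPt R t := by
  rw [affPt, affPt, affPt, bcPt_mul, MonObj.comp_mul]

lemma affPt_inv [GrpObj G] (s : CoactBr.sp K L ⟶ Red.bc (str R K) G) :
    affPt R s⁻¹ = (affPt R s)⁻¹ := by
  rw [affPt, affPt, bcPt_inv, GrpObj.comp_inv]

lemma affPt_surjective (x : CoactBr.sp R L ⟶ G) :
    ∃ t : CoactBr.sp K L ⟶ Red.bc (str R K) G, affPt R t = x :=
  ⟨bcPtInv _ ((mapSpIso R K L).hom ≫ x), by simp [affPt]⟩

end AffPt

end Groth.AlgGrp2
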