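/- Representability by a closed subscheme from local ideals (helper57). -/
import Mathlib

set_option autoImplicit false

universe u

open CategoryTheory CategoryTheory.Limits AlgebraicGeometry TopologicalSpace

noncomputable section

namespace Groth.AlgGrp2

variable {T : Scheme.{u}} (Φ : ∀ ⦃W : Scheme.{u}⦄, (W ⟶ T) → Prop)

/-- The condition `Φ` on affine test schemes over the affine open `U` is cut out by an ideal. -/
def HasIdeal (U : T.affineOpens) : Prop :=
  ∃ I : Ideal Γ(T, U), ∀ (C : CommRingCat.{u}) (φ : Γ(T, U) ⟶ C),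
    Φ (Spec.map φ ≫ U.2.fromSpec) ↔ I ≤ RingHom.ker φ.hom

variable {Φ}

omit Φ in
lemma exists_pow_mul_mem {A : Type u} [CommRing A] (J : Ideal A) (ρ y : A)
    (h : algebraMap (A ⧸ J) (Localization.Away (Ideal.Quotient.mk J ρ)) (Ideal.Quotient.mk J y) = 0) :
    ∃ n : ℕ, ρ ^ n * y ∈ J := by
  obtain ⟨⟨_, n, rfl⟩, hn⟩ :=
    (IsLocalization.map_eq_zero_iff (Submonoid.powers (Ideal.Quotient.mk J ρ)) _ _).mp h
  refine ⟨n, Ideal.Quotient.eq_zero_iff_mem.mp ?_⟩
  rw [map_mul, map_pow]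
  exact hn

lemma exists_lift_away {A A' C : CommRingCat.{u}} (ψ : A ⟶ A') (r : A)
    (h : letI := ψ.hom.toAlgebra; IsLocalization.Away r A') (φ : A ⟶ C) (hu : IsUnit (φ r)) :
    ∃ χ : A' ⟶ C, ψ ≫ χ = φ := by
  letI := ψ.hom.toAlgebra
  haveI := h
  refine ⟨CommRingCat.ofHom (IsLocalization.Away.lift r (g := φ.hom) hu), ?_⟩
  ext y
  exact IsLocalization.Away.lift_eq r hu y

lemma HasIdeal.basicOpen {U : T.affineOpens} (h : HasIdeal Φ U) (r : Γ(T, U)) :
    HasIdeal Φ (T.affineBasicOpen r) := by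
  obtain ⟨I, hI⟩ := h
  let ψ : Γ(T, U) ⟶ Γ(T, (T.affineBasicOpen r).1) := T.presheaf.map (homOfLE (T.basicOpen_le r)).op
  refine ⟨I.map ψ.hom, fun C φ => ?_⟩
  have e : Spec.map φ ≫ (T.affineBasicOpen r).2.fromSpec = Spec.map (ψ ≫ φ) ≫ U.2.fromSpec := by
    rw [Spec.map_comp, Category.assoc]
    congr 1
    exact (U.2.map_fromSpec (T.affineBasicOpen r).2 (homOfLE (T.basicOpen_le r)).op).symm
  rw [e, hI, Ideal.map_le_iff_le_comap, RingHom.comap_ker]
  rfl

lemma HasIdeal.of_span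
    (hcomp : ∀ ⦃V W : Scheme.{u}⦄ (g : V ⟶ W) (f : W ⟶ T), Φ f → Φ (g ≫ f))
    (hloc : ∀ ⦃W : Scheme.{u}⦄ (f : W ⟶ T) (𝒰 : Scheme.OpenCover.{u} W), (∀ i, Φ (𝒰.f i ≫ f)) → Φ f)
    (U : T.affineOpens) (s : Finset Γ(T, U)) (hs : Ideal.span (s : Set Γ(T, U)) = ⊤)
    (h : ∀ r : s, HasIdeal Φ (T.affineBasicOpen r.1)) : HasIdeal Φ U := by
  classical
  choose J hJ using h
  let ψ : ∀ r : s, Γ(T, U) ⟶ Γ(T, (T.affineBasicOpen r.1).1) := fun r =>
    T.presheaf.map (homOfLE (T.basicOpen_le r.1)).op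
  let K : Ideal Γ(T, U) := ⨅ r : s, (J r).comap (ψ r).hom
  have hloc' : ∀ r : s, letI := (ψ r).hom.toAlgebra; IsLocalization.Away r.1 Γ(T, (T.affineBasicOpen r.1).1) :=
    fun r => U.2.isLocalization_basicOpen r.1
  -- agreement of the local ideals on overlaps
  have hpair : ∀ (r r' : s) (x : Γ(T, U)), ψ r x ∈ J r →
      ∃ n : ℕ, ψ r' (r.1 ^ n * x) ∈ J r' := by
    intro r r' x hx
    let L := Localization.Away (Ideal.Quotient.mk (J r') (ψ r' r.1))
    let α : Γ(T, (T.affineBasicOpen r'.1).1) ⟶ CommRingCat.of L := CommRingCat.ofHom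
      ((algebraMap (Γ(T, (T.affineBasicOpen r'.1).1) ⧸ J r') L).comp (Ideal.Quotient.mk (J r')))
    have h1 : Φ (Spec.map α ≫ (T.affineBasicOpen r'.1).2.fromSpec) :=
      (hJ r' _ α).mpr fun y hy => by
        show algebraMap _ L (Ideal.Quotient.mk (J r') y) = 0
        rw [Ideal.Quotient.eq_zero_iff_mem.mpr hy, map_zero]
    obtain ⟨χ, hχ⟩ := exists_lift_away (ψ r) r.1 (hloc' r) (ψ r' ≫ α)
      (IsLocalization.Away.algebraMap_isUnit (S := L) (Ideal.Quotient.mk (J r') (ψ r' r.1)))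
    have e : Spec.map χ ≫ (T.affineBasicOpen r.1).2.fromSpec =
        Spec.map α ≫ (T.affineBasicOpen r'.1).2.fromSpec := by
      rw [← U.2.map_fromSpec (T.affineBasicOpen r.1).2 (homOfLE (T.basicOpen_le r.1)).op,
        ← U.2.map_fromSpec (T.affineBasicOpen r'.1).2 (homOfLE (T.basicOpen_le r'.1)).op,
        ← Spec.map_comp_assoc, ← Spec.map_comp_assoc]
      exact congrArg (fun z => Spec.map z ≫ U.2.fromSpec) hχ
    rw [← e, hJ] at h1
    obtain ⟨n, hn⟩ := exists_pow_mul_mem (J r') (ψ r' r.1) (ψ r' x)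
      ((ConcreteCategory.congr_hom hχ x).symm.trans (h1 hx))
    exact ⟨n, by rw [map_mul, map_pow]; exact hn⟩
  refine ⟨K, fun C φ => ⟨fun hΦ x hx => ?_, fun hK => ?_⟩⟩
  · -- a function in `K` dies on each `D(φ r)`
    rw [RingHom.mem_ker]
    have key : ∀ r : s, ∃ n : ℕ, φ r.1 ^ n * φ x = 0 := by
      intro r
      letI := (ψ r).hom.toAlgebra
      haveI := hloc' r
      let L := CommRingCat.of (Localization.Away (φ r.1))
      let ι : C ⟶ L := CommRingCat.ofHom (algebraMap C (Localization.Away (φ r.1)))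
      have hu : IsUnit ((φ ≫ ι).hom r.1) := IsLocalization.Away.algebraMap_isUnit (φ r.1)
      obtain ⟨χ, hχ⟩ := exists_lift_away (ψ r) r.1 (hloc' r) (φ ≫ ι) hu
      have h1 : Φ (Spec.map χ ≫ (T.affineBasicOpen r.1).2.fromSpec) := by
        rw [← U.2.map_fromSpec (T.affineBasicOpen r.1).2 (homOfLE (T.basicOpen_le r.1)).op,
          ← Spec.map_comp_assoc]
        erw [hχ]
        rw [Spec.map_comp, Category.assoc]
        exact hcomp _ _ hΦ
      rw [hJ] at h1
      have h0 : ι (φ x) = 0 :=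
        (ConcreteCategory.congr_hom hχ x).symm.trans (h1 (Ideal.mem_iInf.mp hx r))
      obtain ⟨⟨_, n, rfl⟩, hn⟩ := (IsLocalization.map_eq_zero_iff (Submonoid.powers (φ r.1)) _ _).mp h0
      exact ⟨n, hn⟩
    choose n hn using key
    let N := Finset.univ.sup n
    have hN : ∀ r : s, φ r.1 ^ N * φ x = 0 := fun r => by
      obtain ⟨d, hd⟩ := Nat.exists_eq_add_of_le (Finset.le_sup (f := n) (Finset.mem_univ r))
      rw [show N = n r + d from hd, pow_add, mul_comm (φ r.1 ^ n r), mul_assoc, hn, mul_zero]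
    have hspan : Ideal.span ((fun y : C => y ^ N) '' (Set.range fun r : s => φ r.1)) = ⊤ := by
      apply Ideal.span_pow_eq_top
      have := congrArg (Ideal.map φ.hom) hs
      rw [Ideal.map_span, Ideal.map_top] at this
      rw [← this]
      congr 1
      ext y
      simp [Set.mem_image]
    have : (1 : C) ∈ (LinearMap.ker (LinearMap.mulRight C (φ x))) := by
      have hle : Ideal.span ((fun y : C => y ^ N) '' (Set.range fun r : s => φ r.1)) ≤
          LinearMap.ker (LinearMap.mulRight C (φ x)) := by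
        rw [Ideal.span_le]
        rintro _ ⟨_, ⟨r, rfl⟩, rfl⟩
        exact hN r
      exact hle (hspan ▸ Submodule.mem_top)
    simpa using this
  · -- cover `Spec C` by the `D(φ r)`
    have hspan : Ideal.span (Set.range fun r : s => φ r.1) = ⊤ := by
      have := congrArg (Ideal.map φ.hom) hs
      rw [Ideal.map_span, Ideal.map_top] at this
      rw [← this]
      congr 1
      ext y
      simp [Set.mem_image]
    refine hloc _ (Scheme.affineOpenCoverOfSpanRangeEqTop (R := C) _ hspan).openCover fun r => ?_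
    letI := (ψ r).hom.toAlgebra
    haveI := hloc' r
    let L := CommRingCat.of (Localization.Away (φ r.1))
    let ι : C ⟶ L := CommRingCat.ofHom (algebraMap C (Localization.Away (φ r.1)))
    have hu : IsUnit ((φ ≫ ι).hom r.1) := IsLocalization.Away.algebraMap_isUnit (φ r.1)
    obtain ⟨χ, hχ⟩ := exists_lift_away (ψ r) r.1 (hloc' r) (φ ≫ ι) hu
    show Φ (Spec.map ι ≫ Spec.map φ ≫ U.2.fromSpec)
    rw [← Spec.map_comp_assoc, ← hχ, Spec.map_comp, Category.assoc,
      show Spec.map (ψ r) ≫ U.2.fromSpec = _ from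
        U.2.map_fromSpec (T.affineBasicOpen r.1).2 (homOfLE (T.basicOpen_le r.1)).op]
    refine (hJ r L χ).mpr fun y hy => ?_
    obtain ⟨⟨x, ⟨_, m, rfl⟩⟩, hxy⟩ := IsLocalization.surj (Submonoid.powers r.1) y
    change y * ψ r (r.1 ^ m) = ψ r x at hxy
    have hx : ψ r x ∈ J r := by rw [← hxy]; exact Ideal.mul_mem_right _ _ hy
    choose n hn using fun r' : s => hpair r r' x hx
    have hKmem : r.1 ^ (Finset.univ.sup n) * x ∈ K := by
      refine Ideal.mem_iInf.mpr fun r' => Ideal.mem_comap.mpr ?_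
      have hle : n r' ≤ Finset.univ.sup n := Finset.le_sup (Finset.mem_univ r')
      obtain ⟨d, hd⟩ := Nat.exists_eq_add_of_le hle
      rw [hd, pow_add, mul_comm (r.1 ^ n r') (r.1 ^ d), mul_assoc, map_mul]
      exact Ideal.mul_mem_left _ _ (hn r')
    have h0 : χ (ψ r (r.1 ^ (Finset.univ.sup n) * x)) = 0 := by
      have := ConcreteCategory.congr_hom hχ (r.1 ^ (Finset.univ.sup n) * x)
      exact this.trans (by
        show ι (φ _) = 0
        rw [RingHom.mem_ker.mp (hK hKmem), map_zero])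
    have hinv : IsUnit (χ (ψ r (r.1 ^ (Finset.univ.sup n + m)))) := by
      have := ConcreteCategory.congr_hom hχ (r.1 ^ (Finset.univ.sup n + m))
      rw [show χ (ψ r (r.1 ^ (Finset.univ.sup n + m))) = _ from this, map_pow]
      exact hu.pow _
    refine hinv.mul_left_eq_zero.mp ?_
    rw [pow_add, map_mul, map_mul]
    calc χ y * (χ (ψ r (r.1 ^ Finset.univ.sup n)) * χ (ψ r (r.1 ^ m)))
        = χ (ψ r (r.1 ^ Finset.univ.sup n)) * χ (y * ψ r (r.1 ^ m)) := by rw [map_mul]; ring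
      _ = 0 := by rw [hxy, ← map_mul, ← map_mul]; exact h0

/-- A Zariski-local condition which is cut out by ideals near every point is representable by a
closed subscheme. -/
theorem exists_closed_of_hasIdeal
    (hcomp : ∀ ⦃V W : Scheme.{u}⦄ (g : V ⟶ W) (f : W ⟶ T), Φ f → Φ (g ≫ f))
    (hloc : ∀ ⦃W : Scheme.{u}⦄ (f : W ⟶ T) (𝒰 : Scheme.OpenCover.{u} W), (∀ i, Φ (𝒰.f i ≫ f)) → Φ f)
    (h : ∀ x : T, ∃ U : T.affineOpens, x ∈ U.1 ∧ HasIdeal Φ U) :
    ∃ (Z : Scheme.{u}) (i : Z ⟶ T), IsClosedImmersion i ∧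
      ∀ (W : Scheme.{u}) (f : W ⟶ T), Φ f ↔ ∃ z, z ≫ i = f := by
  classical
  choose V hxV hV using h
  have hall : ∀ U : T.affineOpens, HasIdeal Φ U := fun U =>
    of_affine_open_cover (P := HasIdeal Φ) V
      (by ext x; simpa using ⟨x, hxV x⟩) U (fun U r hU => hU.basicOpen r)
      (fun U s hs h => HasIdeal.of_span hcomp hloc U s hs h) hV
  choose I hI using hall
  have huniq : ∀ (U : T.affineOpens) (J : Ideal Γ(T, U)),
      (∀ (C : CommRingCat.{u}) (φ : Γ(T, U) ⟶ C), Φ (Spec.map φ ≫ U.2.fromSpec) ↔ J ≤ RingHom.ker φ.hom) →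
      J = I U := by
    intro U J hJ
    refine le_antisymm ?_ ?_
    · have := (hJ _ (CommRingCat.ofHom (Ideal.Quotient.mk (I U)))).mp ((hI U _ _).mpr (by simp))
      simpa using this
    · have := (hI U _ (CommRingCat.ofHom (Ideal.Quotient.mk J))).mp ((hJ _ _).mpr (by simp))
      simpa using this
  let D : T.IdealSheafData :=
    { ideal := I
      map_ideal_basicOpen := fun U r => by
        refine huniq (T.affineBasicOpen r) _ ?_
        intro C φ
        let ψ : Γ(T, U) ⟶ Γ(T, (T.affineBasicOpen r).1) := T.presheaf.map (homOfLE (T.basicOpen_le r)).op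
        have e : Spec.map φ ≫ (T.affineBasicOpen r).2.fromSpec = Spec.map (ψ ≫ φ) ≫ U.2.fromSpec := by
          rw [Spec.map_comp, Category.assoc]
          congr 1
          exact (U.2.map_fromSpec (T.affineBasicOpen r).2 (homOfLE (T.basicOpen_le r)).op).symm
        rw [e, hI]
        exact (Ideal.map_le_iff_le_comap (f := ψ.hom) (I := I U) (K := RingHom.ker φ.hom)).symm }
  refine ⟨D.subscheme, D.subschemeι, inferInstance, fun W f => ⟨fun hf => ?_, ?_⟩⟩
  · -- factor locally on affines of `W`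
    have hb : ∀ w : W, ∃ (U : T.affineOpens) (O : W.affineOpens), w ∈ O.1 ∧ O.1 ≤ f ⁻¹ᵁ U.1 := by
      intro w
      obtain ⟨_, ⟨U, hU, rfl⟩, hwU, -⟩ :=
        T.isBasis_affineOpens.exists_subset_of_mem_open (Set.mem_univ (f w)) isOpen_univ
      obtain ⟨_, ⟨O, hO, rfl⟩, hwO, hOU⟩ :=
        W.isBasis_affineOpens.exists_subset_of_mem_open (show w ∈ ((f ⁻¹ᵁ U : W.Opens) : Set W) from hwU)
          (f ⁻¹ᵁ U).2
      exact ⟨⟨U, hU⟩, ⟨O, hO⟩, hwO, hOU⟩
    choose U O hwO hOU using hb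
    let 𝒰 : W.OpenCover := W.openCoverOfIsOpenCover (fun w => (O w).1)
      (.mk (eq_top_iff.mpr fun w _ => Opens.mem_iSup.mpr ⟨w, hwO w⟩))
    have hfac : ∀ w : W, ∃ z, z ≫ D.subschemeι = (O w).1.ι ≫ f := by
      intro w
      let φ := f.appLE (U w).1 (O w).1 (hOU w)
      have e : Spec.map φ ≫ (U w).2.fromSpec = (O w).2.fromSpec ≫ f :=
        (U w).2.SpecMap_appLE_fromSpec f (O w).2 (hOU w)
      have hk : I (U w) ≤ RingHom.ker φ.hom := (hI _ _ φ).mp (e ▸ hcomp _ _ hf)
      refine ⟨(O w).2.isoSpec.hom ≫ Spec.map (CommRingCat.ofHom (Ideal.Quotient.lift (I (U w)) φ.hom hk)) ≫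
        D.subschemeCover.f (U w), ?_⟩
      rw [Category.assoc, Category.assoc]
      erw [show D.subschemeCover.f (U w) ≫ D.subschemeι =
          Spec.map (CommRingCat.ofHom (Ideal.Quotient.mk (I (U w)))) ≫ (U w).2.fromSpec from
          D.subschemeCover_map_subschemeι (U w)]
      erw [← Spec.map_comp_assoc]
      show (O w).2.isoSpec.hom ≫ Spec.map φ ≫ (U w).2.fromSpec = (O w).1.ι ≫ f
      rw [e, ← Category.assoc, IsAffineOpen.isoSpec_hom_fromSpec]
    choose z hz using hfac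
    refine ⟨𝒰.glueMorphisms z fun a b => ?_, 𝒰.hom_ext _ _ fun a => ?_⟩
    · rw [← cancel_mono D.subschemeι, Category.assoc, Category.assoc]
      erw [hz a, hz b]
      exact pullback.condition_assoc f
    · rw [Scheme.Cover.ι_glueMorphisms_assoc]
      exact hz a
  · rintro ⟨z, rfl⟩
    refine hcomp _ _ (hloc _ D.subschemeCover.openCover fun U => ?_)
    rw [show D.subschemeCover.openCover.f U ≫ D.subschemeι =
      Spec.map (CommRingCat.ofHom (Ideal.Quotient.mk (I U))) ≫ U.2.fromSpec from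
      D.subschemeCover_map_subschemeι U]
    exact (hI U _ _).mpr (by simp)

end Groth.AlgGrp2
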