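/- Basic facts about products and actions in `Over S` (helper57). -/
import Groth.Prelude.Def_AlgGrp
import Mathlib

set_option autoImplicit false

universe u

open CategoryTheory MonoidalCategory CartesianMonoidalCategory MonObj GrpObj AlgebraicGeometry
  CategoryTheory.Limits

namespace Groth.AlgGrp2

variable {S : Scheme.{u}}

/-- The whiskering square in schemes is cartesian. -/
lemma isPullback_whiskerLeft_snd (M : Over S) {Z X : Over S} (z : Z ⟶ X) :
    IsPullback (M ◁ z).left (snd M Z).left (snd M X).left z.left := by
  refine (IsPullback.of_bot ?_ (by simp) (IsPullback.of_hasPullback M.hom X.hom).flip).flip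
  convert (IsPullback.of_hasPullback M.hom Z.hom).flip using 1
  all_goals first | rfl | simp | exact Over.w z | exact Over.whiskerLeft_left_fst z | exact Over.whiskerRight_left_snd z

/-- The whiskering square on the right in schemes is cartesian. -/
lemma isPullback_whiskerRight_fst (M : Over S) {Z X : Over S} (z : Z ⟶ X) :
    IsPullback (z ▷ M).left (fst Z M).left (fst X M).left z.left := by
  refine (IsPullback.of_bot ?_ (by simp) (IsPullback.of_hasPullback X.hom M.hom)).flip
  convert IsPullback.of_hasPullback Z.hom M.hom using 1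
  all_goals first | rfl | simp | exact Over.w z | exact Over.whiskerLeft_left_fst z | exact Over.whiskerRight_left_snd z

lemma isPullback_fst_snd (M X : Over S) :
    IsPullback (fst M X).left (snd M X).left M.hom X.hom :=
  IsPullback.of_hasPullback M.hom X.hom

section Action

variable {G X : Over S} [GrpObj G] (a : AlgGrp.Action G X)

lemma lift_one_act {T : Over S} (x : T ⟶ X) : lift (1 : T ⟶ G) x ≫ a.act = x := by
  have h : lift (1 : T ⟶ G) x = x ≫ (λ_ X).inv ≫ (η[G] ▷ X) := by
    apply CartesianMonoidalCategory.hom_ext <;> simp [Hom.one_def]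
  rw [h, Category.assoc, Category.assoc, a.one_act, Iso.inv_hom_id, Category.comp_id]

lemma lift_mul_act {T : Over S} (g h : T ⟶ G) (x : T ⟶ X) :
    lift (g * h) x ≫ a.act = lift g (lift h x ≫ a.act) ≫ a.act := by
  have h1 : lift (g * h) x = lift (lift g h) x ≫ (μ[G] ▷ X) := by simp [Hom.mul_def]
  rw [h1, Category.assoc, a.mul_act]
  simp

lemma lift_inv_act {T : Over S} (g : T ⟶ G) (x : T ⟶ X) :
    lift g⁻¹ (lift g x ≫ a.act) ≫ a.act = x := by
  rw [← lift_mul_act, inv_mul_cancel, lift_one_act]

lemma lift_act_inv {T : Over S} (g : T ⟶ G) (x : T ⟶ X) :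
    lift g (lift g⁻¹ x ≫ a.act) ≫ a.act = x := by
  rw [← lift_mul_act, mul_inv_cancel, lift_one_act]

/-- The shear automorphism `(g, x) ↦ (g, g · x)`. -/
noncomputable def shear : G ⊗ X ≅ G ⊗ X where
  hom := lift (fst G X) a.act
  inv := lift (fst G X) (lift (fst G X)⁻¹ (snd G X) ≫ a.act)
  hom_inv_id := by
    apply CartesianMonoidalCategory.hom_ext
    · first | simp | exact Over.w z | exact Over.whiskerLeft_left_fst z | exact Over.whiskerRight_left_snd z
    · have h := lift_inv_act a (fst G X) (snd G X)
      rw [lift_fst_snd, Category.id_comp] at h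
      simp [comp_lift_assoc, GrpObj.comp_inv, h]
  inv_hom_id := by
    apply CartesianMonoidalCategory.hom_ext
    · first | simp | exact Over.w z | exact Over.whiskerLeft_left_fst z | exact Over.whiskerRight_left_snd z
    · have h := lift_act_inv a (fst G X) (snd G X)
      have h' : lift (fst G X) (lift (fst G X)⁻¹ (snd G X) ≫ a.act) ≫ a.act = snd G X := h
      simp [h']

@[simp] lemma shear_hom : (shear a).hom = lift (fst G X) a.act := rfl

@[reassoc (attr := simp)]
lemma shear_hom_snd : (shear a).hom ≫ snd G X = a.act := lift_snd _ _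

/-- A property of morphisms which respects isomorphisms and is stable under base change passes from
the structure morphism of `G` to the action morphism. -/
lemma act_prop (P : MorphismProperty Scheme.{u}) [P.IsStableUnderBaseChange] (h : P G.hom) :
    P a.act.left := by
  rw [← shear_hom_snd a, Over.comp_left]
  have : IsIso (shear a).hom.left := inferInstanceAs (IsIso ((Over.forget S).map (shear a).hom))
  rw [P.cancel_left_of_respectsIso]
  exact P.of_isPullback (isPullback_fst_snd G X) h

end Action

section Translate

variable {G : Over S} [GrpObj G]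

/-- Left translation by a rational point. -/
noncomputable def mulLeftIso (g : 𝟙_ (Over S) ⟶ G) : G ≅ G where
  hom := (toUnit G ≫ g) * 𝟙 G
  inv := (toUnit G ≫ g)⁻¹ * 𝟙 G
  hom_inv_id := by simp [MonObj.comp_mul, GrpObj.comp_inv]
  inv_hom_id := by simp [MonObj.comp_mul, GrpObj.comp_inv]

lemma comp_mulLeftIso_hom {T : Over S} (g : 𝟙_ (Over S) ⟶ G) (x : T ⟶ G) :
    x ≫ (mulLeftIso g).hom = (toUnit T ≫ g) * x := by
  simp [mulLeftIso, MonObj.comp_mul]

end Translate

end Groth.AlgGrp2
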