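/- Constant functions: products, field extensions, quotients (helper57). -/
import Mathlib
import Groth.Agent.AlgGrp1.Rigidity
import Groth.Agent.AlgGrp1.Antiaffine
import Groth.Agent.AlgGrp2.Basic
import Groth.Agent.NeronArea.GenericDense
import Groth.Prelude.Def_Red

set_option autoImplicit false
set_option linter.style.haveILetI false

universe u

open CategoryTheory CategoryTheory.Limits MonoidalCategory CartesianMonoidalCategory AlgebraicGeometry

noncomputable section

namespace Groth.AlgGrp2.ConstFun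

open Groth.AlgGrp1

/-- The morphism to the affine line given by a function. -/
def fnHom (W : Scheme.{u}) (s : Γ(W, ⊤)) :
    W ⟶ Spec (CommRingCat.of (Polynomial (ULift.{u} ℤ))) :=
  W.toSpecΓ ≫ Spec.map (CommRingCat.ofHom
    (Polynomial.eval₂RingHom ((Int.castRingHom Γ(W, ⊤)).comp ULift.ringEquiv.toRingHom) s))

/-- The coordinate. -/
def coord : Γ(Spec (CommRingCat.of (Polynomial (ULift.{u} ℤ))), ⊤) :=
  (Scheme.ΓSpecIso (CommRingCat.of (Polynomial (ULift.{u} ℤ)))).inv Polynomial.X

lemma appTop_fnHom (W : Scheme.{u}) (s : Γ(W, ⊤)) : (fnHom W s).appTop coord = s := by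
  show W.toSpecΓ.appTop ((Spec.map _).appTop
    ((Scheme.ΓSpecIso (CommRingCat.of (Polynomial (ULift.{u} ℤ)))).inv Polynomial.X)) = s
  rw [← CommRingCat.comp_apply, ← CommRingCat.comp_apply]
  erw [← Scheme.ΓSpecIso_inv_naturality_assoc, Scheme.toSpecΓ_appTop, Iso.inv_hom_id,
    Category.comp_id]
  simp

lemma fnHom_comp {V W : Scheme.{u}} (g : V ⟶ W) (s : Γ(W, ⊤)) :
    g ≫ fnHom W s = fnHom V (g.appTop s) := by
  rw [fnHom, fnHom, ← Category.assoc, Scheme.toSpecΓ_naturality, Category.assoc, ← Spec.map_comp]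
  congr 2
  apply CommRingCat.hom_ext
  exact Polynomial.ringHom_ext (fun r => by simp) (by simp)

lemma fnHom_injective {W : Scheme.{u}} {s t : Γ(W, ⊤)} (h : fnHom W s = fnHom W t) : s = t := by
  rw [← appTop_fnHom W s, h, appTop_fnHom]

lemma appTop_injective_of_epi {X Y : Scheme.{u}} (f : X ⟶ Y) [Epi f] :
    Function.Injective f.appTop := fun s t h => fnHom_injective <| by
  rw [← cancel_epi f, fnHom_comp, fnHom_comp, h]

variable {k : Type u} [Field k]

/-- A function killed by pullback to every member of a cover is zero. -/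
lemma eq_of_cover {W : Scheme.{u}} (𝒰 : Scheme.OpenCover.{u} W) {s t : Γ(W, ⊤)}
    (h : ∀ i, (𝒰.f i).appTop s = (𝒰.f i).appTop t) : s = t :=
  fnHom_injective <| Scheme.Cover.hom_ext 𝒰 _ _ fun i => by rw [fnHom_comp, fnHom_comp, h]

/-- Functions on `X × T` come from `T` when `X` has only constant functions. -/
theorem eq_snd_pullback {X T : Over (Spec (CommRingCat.of k))} (hX : HasConstFunctions X)
    [QuasiCompact X.hom] [QuasiSeparated X.hom] (e : 𝟙_ _ ⟶ X) (f : Γ((X ⊗ T).left, ⊤)) :
    f = (snd X T).left.appTop ((lift (toUnit T ≫ e) (𝟙 T)).left.appTop f) := by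
  refine eq_of_cover (T.left.affineCover.pullback₁ (snd X T).left) fun i => ?_
  let U : Over (Spec (CommRingCat.of k)) := Over.mk (T.left.affineCover.f i ≫ T.hom)
  let j : U ⟶ T := Over.homMk (T.left.affineCover.f i)
  haveI : IsAffine U.left := inferInstanceAs (IsAffine (T.left.affineCover.X i))
  haveI := isIso_appTop_snd (T := U) hX
  have hP := Groth.AlgGrp2.isPullback_whiskerLeft_snd X j
  have h3 : (pullback.fst (snd X T).left (T.left.affineCover.f i)) =
      hP.isoPullback.inv ≫ (X ◁ j).left := hP.isoPullback_inv_fst.symm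
  show (pullback.fst (snd X T).left (T.left.affineCover.f i)).appTop f =
    (pullback.fst (snd X T).left (T.left.affineCover.f i)).appTop _
  rw [h3]
  show hP.isoPullback.inv.appTop ((X ◁ j).left.appTop f) =
    hP.isoPullback.inv.appTop ((X ◁ j).left.appTop _)
  congr 1
  let s : U ⟶ X ⊗ U := lift (toUnit U ≫ e) (𝟙 U)
  have hs : s.left.appTop.hom.comp (snd X U).left.appTop.hom = RingHom.id _ := by
    rw [← CommRingCat.hom_comp, ← Scheme.Hom.comp_appTop, ← Over.comp_left, lift_snd]
    rfl
  apply (show Function.Injective s.left.appTop from fun a b hab => by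
    obtain ⟨a, rfl⟩ := (ConcreteCategory.bijective_of_isIso (snd X U).left.appTop).2 a
    obtain ⟨b, rfl⟩ := (ConcreteCategory.bijective_of_isIso (snd X U).left.appTop).2 b
    exact congrArg _ ((RingHom.congr_fun hs a).symm.trans (hab.trans (RingHom.congr_fun hs b))))
  have e1 : s ≫ (X ◁ j) = j ≫ lift (toUnit T ≫ e) (𝟙 T) := by
    apply CartesianMonoidalCategory.hom_ext <;> simp [s]
  have e2 : s ≫ (X ◁ j) ≫ snd X T = j := by rw [whiskerLeft_snd, ← Category.assoc]; simp [s]
  show (s ≫ (X ◁ j)).left.appTop f = (s ≫ (X ◁ j) ≫ snd X T).left.appTop _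
  rw [e1, e2]
  rfl

/-- The constant functions. -/
abbrev const (X : Over (Spec (CommRingCat.of k))) : k →+* Γ(X.left, ⊤) :=
  ((Scheme.ΓSpecIso (CommRingCat.of k)).inv ≫ X.hom.appTop).hom

lemma appTop_const {X Y : Over (Spec (CommRingCat.of k))} (p : X ⟶ Y) (c : k) :
    p.left.appTop (const Y c) = const X c := by
  have h := congrArg (fun m : _ ⟶ Spec (CommRingCat.of k) => m.appTop) (Over.w p)
  simp only [Scheme.Hom.comp_appTop] at h
  exact ConcreteCategory.congr_hom h _

lemma const_injective {X : Over (Spec (CommRingCat.of k))} [Nonempty X.left] :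
    Function.Injective (const X) := by
  haveI : Nonempty ((⊤ : X.left.Opens)) := ⟨⟨Classical.arbitrary _, trivial⟩⟩
  exact RingHom.injective _

lemma nonempty_of_point {X : Over (Spec (CommRingCat.of k))} (e : 𝟙_ _ ⟶ X) : Nonempty X.left :=
  ⟨e.left (IsLocalRing.closedPoint k)⟩

theorem hasConst_prod_iff {X Y : Over (Spec (CommRingCat.of k))}
    [QuasiCompact X.hom] [QuasiSeparated X.hom] (e : 𝟙_ _ ⟶ X) (e' : 𝟙_ _ ⟶ Y) :
    HasConstFunctions (X ⊗ Y) ↔ HasConstFunctions X ∧ HasConstFunctions Y := by
  haveI := nonempty_of_point e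
  haveI := nonempty_of_point e'
  haveI := nonempty_of_point (lift e e')
  refine ⟨fun h => ⟨⟨const_injective, fun g => ?_⟩, ⟨const_injective, fun g => ?_⟩⟩, fun h =>
    ⟨const_injective, fun f => ?_⟩⟩
  · obtain ⟨c, hc⟩ := h.2 ((fst X Y).left.appTop g)
    refine ⟨c, ?_⟩
    have := congrArg (lift (𝟙 X) (toUnit X ≫ e')).left.appTop hc
    rw [appTop_const] at this
    refine this.trans ?_
    show (lift (𝟙 X) (toUnit X ≫ e') ≫ fst X Y).left.appTop g = g
    rw [lift_fst]; rfl
  · obtain ⟨c, hc⟩ := h.2 ((snd X Y).left.appTop g)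
    refine ⟨c, ?_⟩
    have := congrArg (lift (toUnit Y ≫ e) (𝟙 Y)).left.appTop hc
    rw [appTop_const] at this
    refine this.trans ?_
    show (lift (toUnit Y ≫ e) (𝟙 Y) ≫ snd X Y).left.appTop g = g
    rw [lift_snd]; rfl
  · obtain ⟨c, hc⟩ := h.2.2 ((lift (toUnit Y ≫ e) (𝟙 Y)).left.appTop f)
    refine ⟨c, ?_⟩
    rw [eq_snd_pullback h.1 e f]
    erw [← hc, appTop_const]

/-- Having only constant functions is insensitive to field extensions. -/
theorem hasConst_bc_iff (K : Type u) [Field K] [Algebra k K] {X : Over (Spec (CommRingCat.of k))}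
    [QuasiCompact X.hom] [QuasiSeparated X.hom] (e : 𝟙_ _ ⟶ X) :
    HasConstFunctions X ↔
      HasConstFunctions (Red.bc (Spec.map (CommRingCat.ofHom (algebraMap k K))) X) := by
  let gp := Spec.map (CommRingCat.ofHom (algebraMap k K))
  let T : Over (Spec (CommRingCat.of k)) := Over.mk gp
  haveI : IsAffine T.left := inferInstanceAs (IsAffine (Spec (CommRingCat.of K)))
  refine ⟨fun h => ?_, fun h => ?_⟩
  · haveI := isIso_appTop_snd (T := T) h
    exact ConcreteCategory.bijective_of_isIso
      ((Scheme.ΓSpecIso (CommRingCat.of K)).inv ≫ (snd X T).left.appTop)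
  · haveI := nonempty_of_point e
    refine ⟨const_injective, fun f => ?_⟩
    haveI : IsSchemeTheoreticallyDominant gp :=
      Groth.NeronArea.isSchemeTheoreticallyDominant_specMap _ (algebraMap k K).injective
    have hinj : Function.Injective (pullback.fst X.hom gp).appTop :=
      (pullback.fst X.hom gp).app_injective ⊤
    obtain ⟨a, ha⟩ := h.2 ((pullback.fst X.hom gp).appTop f)
    let c : k := (Scheme.ΓSpecIso (CommRingCat.of k)).hom (e.left.appTop f)
    let s : T ⟶ X ⊗ T := lift (toUnit T ≫ e) (𝟙 T)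
    have hval : a = algebraMap k K c := by
      have h1 := congrArg s.left.appTop ha
      have hl : s.left.appTop ((pullback.snd X.hom gp).appTop
          ((Scheme.ΓSpecIso (CommRingCat.of K)).inv a)) = (Scheme.ΓSpecIso (CommRingCat.of K)).inv a := by
        show (s ≫ snd X T).left.appTop _ = _
        rw [lift_snd]; rfl
      have hr : s.left.appTop ((pullback.fst X.hom gp).appTop f) =
          (toUnit T).left.appTop (e.left.appTop f) := by
        show (s ≫ fst X T).left.appTop _ = _
        rw [lift_fst]; rfl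
      have h2 := (hl.symm.trans (h1.trans hr))
      have h3 := congrArg (Scheme.ΓSpecIso (CommRingCat.of K)).hom h2
      refine (ConcreteCategory.congr_hom (Scheme.ΓSpecIso (CommRingCat.of K)).inv_hom_id a).symm.trans
        (h3.trans ?_)
      exact ConcreteCategory.congr_hom
        (Scheme.ΓSpecIso_naturality (CommRingCat.ofHom (algebraMap k K))) (e.left.appTop f)
    refine ⟨c, hinj ?_⟩
    refine Eq.trans ?_ ha
    rw [hval]
    have h1 : (pullback.fst X.hom gp).appTop (const X c) = const (X ⊗ T) c :=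
      appTop_const (fst X T) c
    refine h1.trans ((appTop_const (snd X T) c).symm.trans ?_)
    exact congrArg (pullback.snd X.hom gp).appTop
      (ConcreteCategory.congr_hom
        (Scheme.ΓSpecIso_inv_naturality (CommRingCat.ofHom (algebraMap k K))) c).symm

end Groth.AlgGrp2.ConstFun
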