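import Groth.Prelude.Def_W4bk4git07Quot
import Groth.Prelude.Def_NonAbH2
import Groth.Agent.AlgGrp2.ConstFun
import Groth.Agent.DescentBase.FpqcCover
import Groth.Agent.EtaleBase.FpqcDescent
import Groth.Agent.GrpschAbsch.Basic
import Groth.Agent.FlatMor2.FlatComp

/-! fpqc torsors are geometric quotients (helper57). -/

set_option autoImplicit false

universe u

open CategoryTheory CategoryTheory.Limits MonoidalCategory CartesianMonoidalCategory AlgebraicGeometry

namespace Groth.AlgGrp2

/-- Functions descend along flat surjective quasi-compact maps. -/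
theorem exists_app_eq {V Y : Scheme.{u}} (q : V ⟶ Y) [Flat q] [Surjective q] [QuasiCompact q]
    (f : Γ(V, ⊤)) (h : (pullback.fst q q).appTop f = (pullback.snd q q).appTop f) :
    ∃ s : Γ(Y, ⊤), q.appTop s = f := by
  have : EffectiveEpi q := inferInstance
  let g := EffectiveEpi.desc q (ConstFun.fnHom V f) (fun {T} g₁ g₂ hg => by
    calc g₁ ≫ ConstFun.fnHom V f = pullback.lift g₁ g₂ hg ≫ pullback.fst q q ≫ ConstFun.fnHom V f := by
          rw [← Category.assoc, pullback.lift_fst]
      _ = pullback.lift g₁ g₂ hg ≫ pullback.snd q q ≫ ConstFun.fnHom V f := by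
          rw [ConstFun.fnHom_comp (pullback.fst q q), ConstFun.fnHom_comp (pullback.snd q q), h]
      _ = g₂ ≫ ConstFun.fnHom V f := by rw [← Category.assoc, pullback.lift_snd])
  refine ⟨g.appTop ConstFun.coord, ?_⟩
  rw [← CommRingCat.comp_apply, ← Scheme.Hom.comp_appTop,
    EffectiveEpi.fac q (ConstFun.fnHom V f), ConstFun.appTop_fnHom]

variable {S : Scheme.{u}} {G X Y : Over S} [GrpObj G]

/-- A flat surjective quasi-compact morphism for which `G × X ⟶ X ×_Y X` is an isomorphism is a
geometric quotient. -/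
theorem isGeomQuot_of_torsor (a : AlgGrp.Action G X) (φ : X ⟶ Y)
    (hsq : IsPullback a.act.left (snd G X).left φ.left φ.left)
    [Flat φ.left] [Surjective φ.left] [QuasiCompact φ.left] : GIT.IsGeomQuot a φ := by
  have hinv : GIT.IsInvariant a φ := Over.OverMorphism.ext hsq.w
  refine ⟨hinv, φ.left.surjective, ?_, ?_, fun U => ?_⟩
  · have e : GIT.PsiY a φ hinv = hsq.isoPullback.hom := by
      apply pullback.hom_ext
      · rw [GIT.PsiY, pullback.lift_fst, hsq.isoPullback_hom_fst]
      · rw [GIT.PsiY, pullback.lift_snd, hsq.isoPullback_hom_snd]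
    rw [e]
    exact hsq.isoPullback.hom.surjective
  · intro X' Y' i₁ i₂ φ' hpb
    have : Flat φ' := MorphismProperty.of_isPullback hpb.flip ‹Flat φ.left›
    have : Surjective φ' := MorphismProperty.of_isPullback hpb.flip ‹Surjective φ.left›
    have : QuasiCompact φ' := MorphismProperty.of_isPullback hpb.flip ‹QuasiCompact φ.left›
    exact Flat.isQuotientMap_of_surjective φ'
  let q := φ.left ∣_ U
  have : Flat q := IsZariskiLocalAtTarget.restrict ‹Flat φ.left› U
  have : Surjective q := IsZariskiLocalAtTarget.restrict ‹Surjective φ.left› U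
  have : QuasiCompact q := IsZariskiLocalAtTarget.restrict ‹QuasiCompact φ.left› U
  have happ : ∀ s : Γ(Y.left, U), q.appTop (U.topIso.inv s) =
      (φ.left ⁻¹ᵁ U).topIso.inv (φ.left.app U s) := fun s => by
    have h1 : q.appTop = U.topIso.hom ≫ φ.left.app U ≫ (φ.left ⁻¹ᵁ U).topIso.inv := by
      rw [show q = φ.left.resLE U (φ.left ⁻¹ᵁ U) le_rfl from (Scheme.Hom.resLE_eq_morphismRestrict _).symm,
        Scheme.Hom.appTop, Scheme.Hom.resLE_app_top, Scheme.Hom.app_eq_appLE]
    rw [h1]
    simp only [CommRingCat.comp_apply, Iso.inv_hom_id_apply]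
  refine ⟨fun s t hst => ?_, Set.ext fun f => ⟨?_, fun hf => ?_⟩⟩
  · have : EffectiveEpi q := inferInstance
    exact U.topIso.commRingCatIsoToRingEquiv.symm.injective (ConstFun.appTop_injective_of_epi q
      ((happ s).trans ((congrArg _ hst).trans (happ t).symm)))
  · rintro ⟨s, rfl⟩
    show (a.act.left.appLE _ _ _) _ = ((snd G X).left.appLE _ _ _) _
    rw [← CommRingCat.comp_apply, ← CommRingCat.comp_apply, Scheme.Hom.app_eq_appLE,
      Scheme.Hom.appLE_comp_appLE, Scheme.Hom.appLE_comp_appLE]
    congr 2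
    simp only [hsq.w]
  · let V := φ.left ⁻¹ᵁ U
    let W := a.act.left ⁻¹ᵁ V ⊓ (snd G X).left ⁻¹ᵁ V
    let z := hsq.lift (pullback.fst q q ≫ V.ι) (pullback.snd q q ≫ V.ι) (by
      rw [Category.assoc, Category.assoc, ← morphismRestrict_ι, pullback.condition_assoc])
    have hz : Set.range z ⊆ Set.range W.ι := by
      rintro _ ⟨x, rfl⟩
      rw [Scheme.Opens.range_ι]
      constructor
      · show (z ≫ a.act.left) x ∈ V
        rw [hsq.lift_fst]
        exact (pullback.fst q q x).2
      · show (z ≫ (snd G X).left) x ∈ V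
        rw [hsq.lift_snd]
        exact (pullback.snd q q x).2
    let z' := IsOpenImmersion.lift W.ι z hz
    have hz1 : z' ≫ a.act.left.resLE V W inf_le_left = pullback.fst q q := by
      rw [← cancel_mono V.ι, Category.assoc, Scheme.Hom.resLE_comp_ι, IsOpenImmersion.lift_fac_assoc,
        hsq.lift_fst]
    have hz2 : z' ≫ (snd G X).left.resLE V W inf_le_right = pullback.snd q q := by
      rw [← cancel_mono V.ι, Category.assoc, Scheme.Hom.resLE_comp_ι, IsOpenImmersion.lift_fac_assoc,
        hsq.lift_snd]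
    have hW : (a.act.left.resLE V W inf_le_left).appTop (V.topIso.inv f) =
        ((snd G X).left.resLE V W inf_le_right).appTop (V.topIso.inv f) := by
      simp only [Scheme.Hom.appTop, Scheme.Hom.resLE_app_top, CommRingCat.comp_apply,
        Iso.inv_hom_id_apply]
      exact congrArg _ hf
    obtain ⟨s, hs⟩ := exists_app_eq q (V.topIso.inv f) (by
      rw [← hz1, ← hz2, Scheme.Hom.comp_appTop, Scheme.Hom.comp_appTop, CommRingCat.comp_apply,
        CommRingCat.comp_apply, hW])
    refine ⟨U.topIso.hom s, V.topIso.commRingCatIsoToRingEquiv.symm.injective ?_⟩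
    refine ((happ _).symm.trans ?_).trans hs
    rw [Iso.hom_inv_id_apply]

variable {k : Type u} [Field k]

/-- Flatness descends along surjective flat quasi-compact morphisms. -/
instance descendsAlong_flat :
    MorphismProperty.DescendsAlong @Flat Groth.DescentBase.SFQ.{u} :=
  MorphismProperty.DescendsAlong.mk' fun {X Y Z} f g _ ⟨⟨_, _⟩, _⟩ h => by
    have : Flat (pullback.fst f g) := h
    have : Flat (pullback.fst f g ≫ f) := inferInstance
    rw [pullback.condition] at this
    exact Groth.FlatMor2.flat_of_comp_surjective (pullback.snd f g) g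

/-- A pseudo-torsor with sections fpqc locally inherits from the group every property which is
stable under base change and fpqc local on the target. -/
theorem prop_of_locallyTrivial {G X Y : Over S} [GrpObj G] (a : AlgGrp.Action G X) (φ : X ⟶ Y)
    (hsq : IsPullback a.act.left (snd G X).left φ.left φ.left)
    (hloc : NonAbH1.IsLocallyTrivialFor Scheme.fpqcPrecoverage (Over.mk φ.left : Over Y.left))
    (P : MorphismProperty Scheme.{u}) [P.IsStableUnderBaseChange] [IsZariskiLocalAtTarget P]
    [P.DescendsAlong Groth.DescentBase.SFQ] (hG : P G.hom) : P φ.left := by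
  obtain ⟨R, hR, hsec⟩ := hloc
  obtain ⟨𝒰, rfl⟩ := Precoverage.mem_iff_exists_zeroHypercover.1 hR
  refine Groth.DescentBase.of_fpqcCover P inferInstance φ.left 𝒰 fun i => ?_
  obtain ⟨s, hs⟩ := hsec (𝒰.f i) (Presieve.ofArrows.mk i)
  let T : Over S := Over.mk (𝒰.f i ≫ Y.hom)
  let s' : T ⟶ X := Over.homMk s (by
    show s ≫ X.hom = 𝒰.f i ≫ Y.hom
    rw [← Over.w φ, ← Category.assoc]
    exact congrArg (· ≫ Y.hom) hs)
  have h2 : IsPullback ((G ◁ s').left ≫ a.act.left) (snd G T).left φ.left (s'.left ≫ φ.left) :=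
    (Groth.GrpschAbsch.isPullback_whiskerLeft G s').paste_horiz hsq
  have e : s'.left ≫ φ.left = 𝒰.f i := hs
  rw [e] at h2
  have h3 : P (snd G T).left := Groth.GrpschAbsch.snd_left_mem P G T hG
  rw [← h2.isoPullback_hom_snd, P.cancel_left_of_respectsIso] at h3
  exact h3

end Groth.AlgGrp2
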