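/- The locus where two morphisms out of a product agree (helper57). -/
import Mathlib
import Groth.Agent.AlgGrp2.ClosedRep
import Groth.Agent.AlgGrp2.Basic

set_option autoImplicit false
set_option linter.style.haveILetI false

universe u

open CategoryTheory CategoryTheory.Limits MonoidalCategory CartesianMonoidalCategory AlgebraicGeometry
open scoped TensorProduct

noncomputable section

namespace Groth.AlgGrp2

section Alg

variable {R : Type u} [CommRing R] {B : Type u} [CommRing B] [Algebra R B]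

/-- Contraction of `M ⊗ B` along a functional on `B`. -/
def contract (l : B →ₗ[R] R) (M : Type u) [CommRing M] [Algebra R M] : M ⊗[R] B →ₗ[R] M :=
  (TensorProduct.rid R M).toLinearMap ∘ₗ LinearMap.lTensor M l

lemma contract_natural (l : B →ₗ[R] R) {A C : Type u} [CommRing A] [CommRing C] [Algebra R A]
    [Algebra R C] (φ : A →ₐ[R] C) (z : A ⊗[R] B) :
    contract l C (Algebra.TensorProduct.map φ (AlgHom.id R B) z) = φ (contract l A z) := by
  induction z using TensorProduct.induction_on with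
  | zero => simp
  | tmul a b => simp [contract]
  | add x y hx hy => simp only [map_add, hx, hy]

lemma eq_zero_of_contract [Module.Projective R B] {M : Type u} [CommRing M] [Algebra R M]
    (z : M ⊗[R] B) (h : ∀ l : B →ₗ[R] R, contract l M z = 0) : z = 0 := by
  obtain ⟨s, hs⟩ := Module.projective_def'.mp (inferInstance : Module.Projective R B)
  have h1 : LinearMap.lTensor M s z = 0 := by
    classical
    apply (TensorProduct.finsuppScalarRight R R M B).injective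
    ext b
    rw [TensorProduct.finsuppScalarRight_apply, map_zero, Finsupp.zero_apply,
      ← LinearMap.lTensor_comp_apply]
    exact h (Finsupp.lapply b ∘ₗ s)
  calc z = LinearMap.lTensor M (Finsupp.linearCombination R id ∘ₗ s) z := by
        rw [hs, LinearMap.lTensor_id]; rfl
    _ = 0 := by rw [LinearMap.lTensor_comp_apply, h1, map_zero]

/-- If `B` is projective then the kernel condition after tensoring with `B` is cut out by an ideal. -/
lemma exists_ideal_map_le_ker [Module.Projective R B] {A : Type u} [CommRing A] [Algebra R A]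
    (J : Ideal (A ⊗[R] B)) : ∃ I : Ideal A, ∀ (C : Type u) [CommRing C] [Algebra R C] (φ : A →ₐ[R] C),
      J ≤ RingHom.ker (Algebra.TensorProduct.map φ (AlgHom.id R B)).toRingHom ↔
        I ≤ RingHom.ker φ.toRingHom := by
  refine ⟨Ideal.span (Set.range fun p : (B →ₗ[R] R) × J => contract p.1 A p.2.1),
    fun C _ _ φ => ⟨fun h => ?_, fun h z hz => ?_⟩⟩
  · rw [Ideal.span_le]
    rintro _ ⟨⟨l, z, hz⟩, rfl⟩
    show φ (contract l A z) = 0
    rw [← contract_natural]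
    exact (congrArg (contract l C) (h hz)).trans (map_zero _)
  · show Algebra.TensorProduct.map φ (AlgHom.id R B) z = 0
    refine eq_zero_of_contract _ fun l => ?_
    rw [contract_natural]
    exact h (Ideal.subset_span ⟨(l, ⟨z, hz⟩), rfl⟩)

end Alg

lemma _root_.CategoryTheory.IsPullback.comp_mono' {C : Type*} [Category C] {P X Y Z Z' : C}
    {a : P ⟶ X} {b : P ⟶ Y} {f : X ⟶ Z} {g : Y ⟶ Z} (h : IsPullback a b f g) (i : Z ⟶ Z') [Mono i] :
    IsPullback a b (f ≫ i) (g ≫ i) :=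
  ⟨⟨by rw [reassoc_of% h.w]⟩, ⟨PullbackCone.IsLimit.mk _
    (fun s => h.lift s.fst s.snd (by rw [← cancel_mono i]; simpa using s.condition))
    (fun s => h.lift_fst _ _ _) (fun s => h.lift_snd _ _ _)
    (fun s m h1 h2 => h.hom_ext (by simpa using h1) (by simpa using h2))⟩⟩

lemma exists_ideal_eq {D : CommRingCat.{u}} {M N : Scheme.{u}} (p : M ⟶ N) [IsSeparated p]
    (f g : Spec D ⟶ M) (h : f ≫ p = g ≫ p) :
    ∃ J : Ideal D, ∀ (E : CommRingCat.{u}) (ρ : D ⟶ E),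
      Spec.map ρ ≫ f = Spec.map ρ ≫ g ↔ J ≤ RingHom.ker ρ.hom := by
  let e := pullback.fst (pullback.lift f g h) (pullback.diagonal p)
  haveI : IsClosedImmersion e := inferInstance
  obtain ⟨J, iso, he⟩ := IsClosedImmersion.Spec_iff.mp (inferInstance : IsClosedImmersion e)
  refine ⟨J, fun E ρ => ⟨fun hρ => ?_, fun hρ => ?_⟩⟩
  · have hc : Spec.map ρ ≫ pullback.lift f g h = (Spec.map ρ ≫ f) ≫ pullback.diagonal p := by
      apply pullback.hom_ext
      · erw [Category.assoc, pullback.lift_fst, Category.assoc, pullback.diagonal_fst,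
          Category.comp_id]
      · erw [Category.assoc, pullback.lift_snd, Category.assoc, pullback.diagonal_snd,
          Category.comp_id]
        exact hρ.symm
    let z : Spec E ⟶ Spec (CommRingCat.of (D ⧸ J)) := pullback.lift _ _ hc ≫ iso.hom
    have hz : z ≫ Spec.map (CommRingCat.ofHom (Ideal.Quotient.mk J)) = Spec.map ρ := by
      rw [Category.assoc, ← he]
      exact pullback.lift_fst _ _ _
    obtain ⟨χ, hχ⟩ : ∃ χ, Spec.map χ = z := ⟨Spec.preimage z, Spec.map_preimage z⟩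
    rw [← hχ, ← Spec.map_comp] at hz
    rw [← Spec.map_injective hz]
    intro x hx
    show χ.hom (Ideal.Quotient.mk J x) = 0
    rw [Ideal.Quotient.eq_zero_iff_mem.mpr hx, map_zero]
  · have hfac : Spec.map ρ = (Spec.map (CommRingCat.ofHom (Ideal.Quotient.lift J ρ.hom hρ)) ≫ iso.inv) ≫ e := by
      rw [he, Category.assoc, Iso.inv_hom_id_assoc, ← Spec.map_comp]
      rfl
    have hfg : e ≫ f = e ≫ g := by
      have c := pullback.condition (f := pullback.lift f g h) (g := pullback.diagonal p)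
      have cf := congrArg (· ≫ pullback.fst p p) c
      have cg := congrArg (· ≫ pullback.snd p p) c
      simp only [Category.assoc, pullback.lift_fst, pullback.lift_snd, pullback.diagonal_fst,
        pullback.diagonal_snd, Category.comp_id] at cf cg
      exact cf.trans cg.symm
    rw [hfac, Category.assoc, Category.assoc, Category.assoc, Category.assoc, hfg]

variable {S : Scheme.{u}} {Y T H : Over S}

/-- `f` and `g` agree after pullback to `W`. -/
def AgreeOn (f g : Y ⊗ T ⟶ H) ⦃W : Scheme.{u}⦄ (t : W ⟶ T.left) : Prop :=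
  (Y ◁ (Over.homMk t : Over.mk (t ≫ T.hom) ⟶ T)) ≫ f =
    (Y ◁ (Over.homMk t : Over.mk (t ≫ T.hom) ⟶ T)) ≫ g

lemma agreeOn_iff (f g : Y ⊗ T ⟶ H) {W : Over S} (t : W ⟶ T) :
    AgreeOn f g t.left ↔ (Y ◁ t) ≫ f = (Y ◁ t) ≫ g := by
  let e : W ≅ Over.mk (t.left ≫ T.hom) := Over.isoMk (Iso.refl _) (by simp)
  have : t = e.hom ≫ (Over.homMk t.left : Over.mk (t.left ≫ T.hom) ⟶ T) := by
    ext; simp [e]
  conv_rhs => rw [this, whiskerLeft_comp, Category.assoc, Category.assoc,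
    cancel_epi (Y ◁ e.hom)]
  rfl

lemma agreeOn_comp (f g : Y ⊗ T ⟶ H) ⦃V W : Scheme.{u}⦄ (h : V ⟶ W) (t : W ⟶ T.left)
    (ht : AgreeOn f g t) : AgreeOn f g (h ≫ t) := by
  let τ : Over.mk (t ≫ T.hom) ⟶ T := Over.homMk t
  let h' : Over.mk ((h ≫ t) ≫ T.hom) ⟶ Over.mk (t ≫ T.hom) := Over.homMk h (by simp)
  have : (Over.homMk (h ≫ t) : Over.mk ((h ≫ t) ≫ T.hom) ⟶ T) = h' ≫ τ := by ext; rfl
  show _ ≫ f = _ ≫ g
  rw [this, whiskerLeft_comp_assoc, whiskerLeft_comp_assoc]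
  exact congrArg _ ht

lemma agreeOn_local (f g : Y ⊗ T ⟶ H) ⦃W : Scheme.{u}⦄ (t : W ⟶ T.left)
    (𝒰 : Scheme.OpenCover.{u} W) (h : ∀ i, AgreeOn f g (𝒰.f i ≫ t)) : AgreeOn f g t := by
  let Wo : Over S := Over.mk (t ≫ T.hom)
  let τ : Wo ⟶ T := Over.homMk t
  show (Y ◁ τ) ≫ f = (Y ◁ τ) ≫ g
  ext1
  refine Scheme.Cover.hom_ext (𝒰.pullback₁ (snd Y Wo).left) _ _ fun i => ?_
  let σ : Over.mk ((𝒰.f i ≫ t) ≫ T.hom) ⟶ Wo := Over.homMk (𝒰.f i) (by simp [Wo])
  have hP := isPullback_whiskerLeft_snd Y σ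
  have h2 : (Y ◁ σ) ≫ (Y ◁ τ) ≫ f = (Y ◁ σ) ≫ (Y ◁ τ) ≫ g := by
    have hi := h i
    rw [← whiskerLeft_comp_assoc, ← whiskerLeft_comp_assoc]
    have e : σ ≫ τ = Over.homMk (𝒰.f i ≫ t) := by ext; rfl
    rw [e]; exact hi
  have h3 : (pullback.fst (snd Y Wo).left (𝒰.f i)) =
      hP.isoPullback.inv ≫ (Y ◁ σ).left := hP.isoPullback_inv_fst.symm
  show pullback.fst (snd Y Wo).left (𝒰.f i) ≫ _ = pullback.fst (snd Y Wo).left (𝒰.f i) ≫ _
  rw [h3]
  refine (Category.assoc _ _ _).trans (Eq.trans ?_ (Category.assoc _ _ _).symm)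
  exact congrArg (hP.isoPullback.inv ≫ ·) (congrArg CommaMorphism.left h2)

/-- The local hypothesis near a point. -/
def EqLocusChart (f g : Y ⊗ T ⟶ H) (U0 : S.affineOpens) (U : T.left.affineOpens) (y : Y.left) :
    Prop :=
  ∃ (V : Y.left.affineOpens) (hV : V.1 ≤ Y.hom ⁻¹ᵁ U0.1) (H' : H.left.Opens), y ∈ V.1 ∧
    (letI := (Y.hom.appLE U0.1 V.1 hV).hom.toAlgebra; Module.Projective Γ(S, U0.1) Γ(Y.left, V.1)) ∧
    IsSeparated (H'.ι ≫ H.hom) ∧
    (fst Y T).left ⁻¹ᵁ V.1 ⊓ (snd Y T).left ⁻¹ᵁ U.1 ≤ f.left ⁻¹ᵁ H' ⊓ g.left ⁻¹ᵁ H'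

section Chart

variable (U0 : S.affineOpens) (U : T.left.affineOpens) (hU : U.1 ≤ T.hom ⁻¹ᵁ U0.1)
  (V : Y.left.affineOpens) (hV : V.1 ≤ Y.hom ⁻¹ᵁ U0.1)

/-- `(algebraMap R B, algebraMap R C)` -/
lemma spec_tensor_fromSpec (C : CommRingCat.{u}) (φ : Γ(T.left, U.1) ⟶ C) :
    letI := (Y.hom.appLE U0.1 V.1 hV).hom.toAlgebra
    letI := (T.hom.appLE U0.1 U.1 hU ≫ φ).hom.toAlgebra
    IsPullback
      (Spec.map (CommRingCat.ofHom (Algebra.TensorProduct.includeLeftRingHom :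
        C →+* C ⊗[Γ(S, U0.1)] Γ(Y.left, V.1))))
      (Spec.map (CommRingCat.ofHom (Algebra.TensorProduct.includeRight.toRingHom :
        Γ(Y.left, V.1) →+* C ⊗[Γ(S, U0.1)] Γ(Y.left, V.1))))
      ((Spec.map φ ≫ U.2.fromSpec) ≫ T.hom) (V.2.fromSpec ≫ Y.hom) := by
  letI := (Y.hom.appLE U0.1 V.1 hV).hom.toAlgebra
  letI := (T.hom.appLE U0.1 U.1 hU ≫ φ).hom.toAlgebra
  have h := (isPullback_SpecMap_of_isPushout _ _ _ _
    (CommRingCat.isPushout_tensorProduct Γ(S, U0.1) C Γ(Y.left, V.1))).comp_mono' U0.2.fromSpec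
  have e1 : Spec.map (CommRingCat.ofHom (algebraMap Γ(S, U0.1) C)) ≫ U0.2.fromSpec =
      (Spec.map φ ≫ U.2.fromSpec) ≫ T.hom := by
    rw [Category.assoc, ← U0.2.SpecMap_appLE_fromSpec T.hom U.2 hU, ← Spec.map_comp_assoc]
    rfl
  have e2 : Spec.map (CommRingCat.ofHom (algebraMap Γ(S, U0.1) Γ(Y.left, V.1))) ≫ U0.2.fromSpec =
      V.2.fromSpec ≫ Y.hom := by
    rw [← U0.2.SpecMap_appLE_fromSpec Y.hom V.2 hV]
    rfl
  exact e1 ▸ e2 ▸ h

/-- The map to the product over `U ×[U0] V`. -/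
def chartMap (C : CommRingCat.{u}) (φ : Γ(T.left, U.1) ⟶ C) :
    letI := (Y.hom.appLE U0.1 V.1 hV).hom.toAlgebra
    letI := (T.hom.appLE U0.1 U.1 hU ≫ φ).hom.toAlgebra
    Spec (CommRingCat.of (C ⊗[Γ(S, U0.1)] Γ(Y.left, V.1))) ⟶
      pullback Y.hom ((Spec.map φ ≫ U.2.fromSpec) ≫ T.hom) :=
  letI := (Y.hom.appLE U0.1 V.1 hV).hom.toAlgebra
  letI := (T.hom.appLE U0.1 U.1 hU ≫ φ).hom.toAlgebra
  pullback.lift
    (Spec.map (CommRingCat.ofHom (Algebra.TensorProduct.includeRight.toRingHom :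
        Γ(Y.left, V.1) →+* C ⊗[Γ(S, U0.1)] Γ(Y.left, V.1))) ≫ V.2.fromSpec)
    (Spec.map (CommRingCat.ofHom (Algebra.TensorProduct.includeLeftRingHom :
        C →+* C ⊗[Γ(S, U0.1)] Γ(Y.left, V.1))))
    (by rw [Category.assoc]; exact (spec_tensor_fromSpec U0 U hU V hV C φ).w.symm)

lemma isPullback_chartMap (C : CommRingCat.{u}) (φ : Γ(T.left, U.1) ⟶ C) :
    letI := (Y.hom.appLE U0.1 V.1 hV).hom.toAlgebra
    letI := (T.hom.appLE U0.1 U.1 hU ≫ φ).hom.toAlgebra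
    IsPullback
      (Spec.map (CommRingCat.ofHom (Algebra.TensorProduct.includeRight.toRingHom :
        Γ(Y.left, V.1) →+* C ⊗[Γ(S, U0.1)] Γ(Y.left, V.1))))
      (chartMap U0 U hU V hV C φ) V.2.fromSpec (pullback.fst _ _) := by
  letI := (Y.hom.appLE U0.1 V.1 hV).hom.toAlgebra
  letI := (T.hom.appLE U0.1 U.1 hU ≫ φ).hom.toAlgebra
  refine IsPullback.of_bot ?_ (pullback.lift_fst _ _ _).symm (IsPullback.of_hasPullback _ _)
  rw [chartMap, pullback.lift_snd]
  exact (spec_tensor_fromSpec U0 U hU V hV C φ).flip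

lemma range_chartMap (C : CommRingCat.{u}) (φ : Γ(T.left, U.1) ⟶ C) :
    Set.range (chartMap U0 U hU V hV C φ) =
      pullback.fst Y.hom ((Spec.map φ ≫ U.2.fromSpec) ≫ T.hom) ⁻¹' V.1 := by
  have h := Scheme.image_preimage_eq_of_isPullback (isPullback_chartMap U0 U hU V hV C φ) Set.univ
  rw [Set.preimage_univ, Set.image_univ, Set.image_univ] at h
  rw [← V.2.range_fromSpec]
  exact h

end Chart

/-- The condition attached to a single chart is cut out by an ideal. -/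
lemma exists_ideal_chart (f g : Y ⊗ T ⟶ H) (U0 : S.affineOpens) (U : T.left.affineOpens)
    (hU : U.1 ≤ T.hom ⁻¹ᵁ U0.1) (V : Y.left.affineOpens) (hV : V.1 ≤ Y.hom ⁻¹ᵁ U0.1)
    (H' : H.left.Opens)
    (hproj : letI := (Y.hom.appLE U0.1 V.1 hV).hom.toAlgebra; Module.Projective Γ(S, U0.1) Γ(Y.left, V.1))
    [IsSeparated (H'.ι ≫ H.hom)]
    (hle : (fst Y T).left ⁻¹ᵁ V.1 ⊓ (snd Y T).left ⁻¹ᵁ U.1 ≤ f.left ⁻¹ᵁ H' ⊓ g.left ⁻¹ᵁ H') :
    ∃ I : Ideal Γ(T.left, U.1), ∀ (C : CommRingCat.{u}) (φ : Γ(T.left, U.1) ⟶ C),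
      (chartMap U0 U hU V hV C φ ≫ (Y ◁ (Over.homMk (Spec.map φ ≫ U.2.fromSpec) :
          Over.mk ((Spec.map φ ≫ U.2.fromSpec) ≫ T.hom) ⟶ T)).left) ≫ f.left =
      (chartMap U0 U hU V hV C φ ≫ (Y ◁ (Over.homMk (Spec.map φ ≫ U.2.fromSpec) :
          Over.mk ((Spec.map φ ≫ U.2.fromSpec) ≫ T.hom) ⟶ T)).left) ≫ g.left ↔
      I ≤ RingHom.ker φ.hom := by
  letI := (Y.hom.appLE U0.1 V.1 hV).hom.toAlgebra
  letI := (T.hom.appLE U0.1 U.1 hU).hom.toAlgebra
  haveI := hproj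
  let qA : Spec (CommRingCat.of (Γ(T.left, U.1) ⊗[Γ(S, U0.1)] Γ(Y.left, V.1))) ⟶ (Y ⊗ T).left :=
    pullback.lift
      (Spec.map (CommRingCat.ofHom (Algebra.TensorProduct.includeRight.toRingHom :
        Γ(Y.left, V.1) →+* Γ(T.left, U.1) ⊗[Γ(S, U0.1)] Γ(Y.left, V.1))) ≫ V.2.fromSpec)
      (Spec.map (CommRingCat.ofHom (Algebra.TensorProduct.includeLeftRingHom :
        Γ(T.left, U.1) →+* Γ(T.left, U.1) ⊗[Γ(S, U0.1)] Γ(Y.left, V.1))) ≫ U.2.fromSpec)
      (by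
        rw [Category.assoc, Category.assoc, ← U0.2.SpecMap_appLE_fromSpec Y.hom V.2 hV,
          ← U0.2.SpecMap_appLE_fromSpec T.hom U.2 hU, ← Spec.map_comp_assoc, ← Spec.map_comp_assoc]
        congr 2
        ext x
        exact ((Algebra.TensorProduct.includeRight :
          Γ(Y.left, V.1) →ₐ[Γ(S, U0.1)] Γ(T.left, U.1) ⊗[Γ(S, U0.1)] Γ(Y.left, V.1)).commutes x))
  have hr : ∀ p, qA p ∈ (fst Y T).left ⁻¹ᵁ V.1 ⊓ (snd Y T).left ⁻¹ᵁ U.1 := by
    intro p
    constructor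
    · show (qA ≫ (fst Y T).left) p ∈ (V.1 : Set Y.left)
      rw [show qA ≫ (fst Y T).left = _ from pullback.lift_fst _ _ _, ← V.2.range_fromSpec]
      exact Set.mem_range_self _
    · show (qA ≫ (snd Y T).left) p ∈ (U.1 : Set T.left)
      rw [show qA ≫ (snd Y T).left = _ from pullback.lift_snd _ _ _, ← U.2.range_fromSpec]
      exact Set.mem_range_self _
  have hf : Set.range (qA ≫ f.left) ⊆ Set.range H'.ι := by
    rw [H'.range_ι]; rintro _ ⟨p, rfl⟩; exact (hle (hr p)).1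
  have hg : Set.range (qA ≫ g.left) ⊆ Set.range H'.ι := by
    rw [H'.range_ι]; rintro _ ⟨p, rfl⟩; exact (hle (hr p)).2
  let f1 := IsOpenImmersion.lift H'.ι (qA ≫ f.left) hf
  let g1 := IsOpenImmersion.lift H'.ι (qA ≫ g.left) hg
  have hfg : f1 ≫ H'.ι ≫ H.hom = g1 ≫ H'.ι ≫ H.hom := by
    simp only [f1, g1, IsOpenImmersion.lift_fac_assoc, Category.assoc, Over.w]
  obtain ⟨J, hJ⟩ := exists_ideal_eq (H'.ι ≫ H.hom) f1 g1 hfg
  obtain ⟨I, hI⟩ := exists_ideal_map_le_ker J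
  refine ⟨I, fun C φ => ?_⟩
  letI : Algebra Γ(S, U0.1) C := (T.hom.appLE U0.1 U.1 hU ≫ φ).hom.toAlgebra
  let φa : Γ(T.left, U.1) →ₐ[Γ(S, U0.1)] C := { φ.hom with commutes' := fun _ => rfl }
  let M := Algebra.TensorProduct.map φa (AlgHom.id Γ(S, U0.1) Γ(Y.left, V.1))
  have key : chartMap U0 U hU V hV C φ ≫ (Y ◁ (Over.homMk (Spec.map φ ≫ U.2.fromSpec) :
      Over.mk ((Spec.map φ ≫ U.2.fromSpec) ≫ T.hom) ⟶ T)).left =
      Spec.map (CommRingCat.ofHom M.toRingHom) ≫ qA := by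
    apply pullback.hom_ext
    · refine (Category.assoc _ _ _).trans ((congrArg _ (Over.whiskerLeft_left_fst _)).trans
        ((pullback.lift_fst _ _ _).trans ?_))
      refine Eq.trans ?_ ((Category.assoc _ _ _).trans (congrArg _ (pullback.lift_fst _ _ _))).symm
      rw [← Spec.map_comp_assoc]
      congr 2
      ext x
      exact ((Algebra.TensorProduct.map_tmul φa (AlgHom.id _ _) 1 x).trans
        (congrArg (· ⊗ₜ[Γ(S, U0.1)] x) (map_one φa))).symm
    · refine (Category.assoc _ _ _).trans ((congrArg _ (Over.whiskerLeft_left_snd _)).trans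
        ((Category.assoc _ _ _).symm.trans ((congrArg (· ≫ _) (pullback.lift_snd _ _ _)).trans ?_)))
      refine Eq.trans ?_ ((Category.assoc _ _ _).trans (congrArg _ (pullback.lift_snd _ _ _))).symm
      refine (Spec.map_comp_assoc _ _ _).symm.trans (Eq.trans ?_ (Spec.map_comp_assoc _ _ _))
      refine congrArg (fun z => Spec.map z ≫ U.2.fromSpec) ?_
      ext x
      exact (Algebra.TensorProduct.map_tmul φa (AlgHom.id _ _) x 1).symm
  have e : (Spec.map (CommRingCat.ofHom M.toRingHom) ≫ f1 =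
      Spec.map (CommRingCat.ofHom M.toRingHom) ≫ g1) ↔
      ((Spec.map (CommRingCat.ofHom M.toRingHom) ≫ qA) ≫ f.left =
        (Spec.map (CommRingCat.ofHom M.toRingHom) ≫ qA) ≫ g.left) := by
    rw [← cancel_mono H'.ι, Category.assoc, Category.assoc, IsOpenImmersion.lift_fac,
      IsOpenImmersion.lift_fac, ← Category.assoc, ← Category.assoc]
  refine Iff.trans ?_ (e.symm.trans ((hJ _ _).trans (hI C φa)))
  exact iff_of_eq (congrArg (fun z : _ ⟶ (Y ⊗ T).left => z ≫ f.left = z ≫ g.left) key)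

lemma hasIdeal_agreeOn (f g : Y ⊗ T ⟶ H) (U0 : S.affineOpens) (U : T.left.affineOpens)
    (hU : U.1 ≤ T.hom ⁻¹ᵁ U0.1) (hc : ∀ y : Y.left, Y.hom y ∈ U0.1 → EqLocusChart f g U0 U y) :
    HasIdeal (AgreeOn f g) U := by
  choose V hV H' hyV hproj hsep hle using fun y : {y : Y.left // Y.hom y ∈ U0.1} => hc y.1 y.2
  have hI : ∀ y, _ := fun y => haveI := hsep y
    exists_ideal_chart f g U0 U hU (V y) (hV y) (H' y) (hproj y) (hle y)
  choose I hI using hI
  refine ⟨⨆ y, I y, fun C φ => ?_⟩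
  rw [iSup_le_iff]
  let t := Spec.map φ ≫ U.2.fromSpec
  let τ : Over.mk (t ≫ T.hom) ⟶ T := Over.homMk t
  constructor
  · intro h y
    exact (hI y C φ).mp ((Category.assoc _ _ _).trans
      ((congrArg _ (congrArg CommaMorphism.left h)).trans (Category.assoc _ _ _).symm))
  · intro h
    show (Y ◁ τ) ≫ f = (Y ◁ τ) ≫ g
    ext1
    haveI : ∀ y, IsOpenImmersion (chartMap U0 U hU (V y) (hV y) C φ) := fun y =>
      MorphismProperty.of_isPullback (isPullback_chartMap U0 U hU (V y) (hV y) C φ) inferInstance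
    let 𝒰 : Scheme.OpenCover.{u} (pullback Y.hom (t ≫ T.hom)) := Scheme.Cover.mkOfCovers
      {y : Y.left // Y.hom y ∈ U0.1} (fun y => _) (fun y => chartMap U0 U hU (V y) (hV y) C φ)
      (fun p => by
        have hp : Y.hom ((pullback.fst Y.hom (t ≫ T.hom)) p) ∈ U0.1 := by
          have hw := congrArg (fun m => m p) (pullback.condition (f := Y.hom) (g := t ≫ T.hom))
          simp only [Scheme.Hom.comp_apply] at hw
          rw [hw]
          exact hU (by
            show U.2.fromSpec _ ∈ (U.1 : Set T.left)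
            rw [← U.2.range_fromSpec]; exact Set.mem_range_self _)
        have hm : p ∈ Set.range (chartMap U0 U hU (V ⟨_, hp⟩) (hV ⟨_, hp⟩) C φ) := by
          rw [range_chartMap]; exact hyV ⟨_, hp⟩
        exact ⟨⟨_, hp⟩, hm⟩)
    refine Scheme.Cover.hom_ext 𝒰 _ _ fun y => ?_
    exact (Category.assoc _ _ _).symm.trans (((hI y C φ).mpr (h y)).trans (Category.assoc _ _ _))

/-- The locus where `f g : Y ⊗ T ⟶ H` agree is a closed subscheme of `T`. -/
theorem exists_closed_equalizer (f g : Y ⊗ T ⟶ H)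
    (h : ∀ x : T.left, ∃ (U0 : S.affineOpens) (U : T.left.affineOpens), x ∈ U.1 ∧
      U.1 ≤ T.hom ⁻¹ᵁ U0.1 ∧ ∀ y : Y.left, Y.hom y ∈ U0.1 → EqLocusChart f g U0 U y) :
    ∃ (Z : Over S) (i : Z ⟶ T), IsClosedImmersion i.left ∧
      ∀ (W : Over S) (t : W ⟶ T), (Y ◁ t) ≫ f = (Y ◁ t) ≫ g ↔ ∃ z : W ⟶ Z, z ≫ i = t := by
  obtain ⟨Z, i, hi, hZ⟩ := exists_closed_of_hasIdeal (Φ := AgreeOn f g) (agreeOn_comp f g)
    (agreeOn_local f g) fun x => by
      obtain ⟨U0, U, hx, hU, hc⟩ := h x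
      exact ⟨U, hx, hasIdeal_agreeOn f g U0 U hU hc⟩
  refine ⟨Over.mk (i ≫ T.hom), Over.homMk i, hi, fun W t => ?_⟩
  rw [← agreeOn_iff, hZ]
  constructor
  · rintro ⟨z, hz⟩
    exact ⟨Over.homMk z (by simp [reassoc_of% hz]), by ext; exact hz⟩
  · rintro ⟨z, rfl⟩
    exact ⟨z.left, rfl⟩

end Groth.AlgGrp2
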