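/- `D_k(M) ≅ D_S(M)` for `S = Spec k`, and base change of group algebras (helper57). -/
import Groth.Agent.AlgGrp2.AffinePts

set_option autoImplicit false

universe u

open CategoryTheory MonoidalCategory CartesianMonoidalCategory MonObj AlgebraicGeometry
  CategoryTheory.Limits Opposite
open scoped TensorProduct

noncomputable section

namespace Groth.AlgGrp2

open scoped AlgebraMonoidAlgebra

/-- The group algebra over `K` is the pushout of the one over `R`. -/
lemma isPullback_monoidAlgebra (R K : Type u) [CommRing R] [CommRing K] [Algebra R K]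
    (M : Type) [CommGroup M] :
    IsPullback
      (Spec.map (CommRingCat.ofHom (MonoidAlgebra.mapRingHom M (algebraMap R K))))
      (Spec.map (CommRingCat.ofHom (algebraMap K (MonoidAlgebra K M))))
      (Spec.map (CommRingCat.ofHom (algebraMap R (MonoidAlgebra R M))))
      (Spec.map (CommRingCat.ofHom (algebraMap R K))) := by
  have h := CommRingCat.isPushout_of_isPushout R (MonoidAlgebra R M) K (MonoidAlgebra K M)
  exact isPullback_SpecMap_of_isPushout _ _ _ _ h

/-- `k`-scheme `Spec k[M]` mapped into the base change of `Spec R[M]`. -/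
def diagBC (R K : Type u) [CommRing R] [CommRing K] [Algebra R K] (M : Type) [AddCommGroup M] :
    Red.diag K M ≅ Red.bc (str R K) (Red.diag R M) :=
  Over.isoMk (isPullback_monoidAlgebra R K (Multiplicative M)).isoPullback
    ((isPullback_monoidAlgebra R K (Multiplicative M)).isoPullback_hom_snd)

/-- The algebra map `R[M] → K[M]`. -/
def mapAlgHomMon (R K : Type u) [CommRing R] [CommRing K] [Algebra R K] (M : Type) [AddCommGroup M] :
    MonoidAlgebra R (Multiplicative M) →ₐ[R] MonoidAlgebra K (Multiplicative M) :=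
  { MonoidAlgebra.mapRingHom (Multiplicative M) (algebraMap R K) with
    commutes' := fun r => by simp [MonoidAlgebra.coe_algebraMap] }

@[simp] lemma mapAlgHomMon_single (R K : Type u) [CommRing R] [CommRing K] [Algebra R K] (M : Type)
    [AddCommGroup M] (m : Multiplicative M) (r : R) :
    mapAlgHomMon R K M (MonoidAlgebra.single m r) = MonoidAlgebra.single m (algebraMap R K r) := by
  show MonoidAlgebra.mapRingHom (Multiplicative M) (algebraMap R K) _ = _
  simp [MonoidAlgebra.mapRingHom_single]

lemma affPt_diagBC (R K : Type u) [CommRing R] [CommRing K] [Algebra R K] (M : Type) [AddCommGroup M] :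
    affPt R (diagBC R K M).hom = CoactBr.pt (mapAlgHomMon R K M) := by
  ext1
  show 𝟙 _ ≫ (((Over.mapPullbackAdj (str R K)).homEquiv _ _).symm (diagBC R K M).hom).left = _
  rw [Category.id_comp]
  simp only [Over.mapPullbackAdj, Adjunction.mkOfHomEquiv_homEquiv, Equiv.coe_fn_symm_mk]
  exact (isPullback_monoidAlgebra R K (Multiplicative M)).isoPullback_hom_fst

/-- Group algebras: a scheme isomorphism `D_K(M) ≅ D_R(M) ×_R K` is a homomorphism. -/
instance isMonHom_diagBC (R K : Type u) [CommRing R] [CommRing K] [Algebra R K] (M : Type)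
    [AddCommGroup M] : IsMonHom (diagBC R K M).hom := by
  refine isMonHom_of_pt _ fun g h => ?_
  obtain ⟨φ, rfl⟩ := pt_surjective g
  obtain ⟨ψ, rfl⟩ := pt_surjective h
  apply affPt_injective (R := R)
  rw [affPt_mul, CoactBr.pt_mul_pt, affPt_comp, affPt_comp, affPt_comp, affPt_diagBC,
    ← CoactBr.pt_comp, ← CoactBr.pt_comp, ← CoactBr.pt_comp, CoactBr.pt_mul_pt]
  congr 1
  apply MonoidAlgebra.algHom_ext
  · exact fun m => by simp
  all_goals ext

section Z

variable (k : Type u) [CommRing k] (M : Type) [AddCommGroup M]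

/-- `D_k(M) ≅ D_{Spec k}(M)` as group schemes. -/
def diagIsoDS : Red.diag k M ≅ Red.DS (Spec (CommRingCat.of k)) M :=
  letI : Algebra (ULift.{u} ℤ) k :=
    ((Int.castRingHom k).comp (ULift.ringEquiv : ULift.{u} ℤ ≃+* ℤ).toRingHom).toAlgebra
  diagBC (ULift.{u} ℤ) k M ≪≫ eqToIso (by
    rw [specULiftZIsTerminal.hom_ext (str (ULift.{u} ℤ) k)
      (specULiftZIsTerminal.from (Spec (CommRingCat.of k)))])

lemma isMonHom_bc_eqToIso {S S' : Scheme.{u}} {f g : S' ⟶ S} (h : f = g) (G : Over S) [GrpObj G]
    (e : Red.bc f G = Red.bc g G) : IsMonHom (eqToIso e).hom := by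
  subst h
  show IsMonHom (𝟙 _)
  infer_instance

instance isMonHom_diagIsoDS : IsMonHom (diagIsoDS k M).hom := by
  letI : Algebra (ULift.{u} ℤ) k :=
    ((Int.castRingHom k).comp (ULift.ringEquiv : ULift.{u} ℤ ≃+* ℤ).toRingHom).toAlgebra
  haveI := isMonHom_bc_eqToIso (specULiftZIsTerminal.hom_ext (str (ULift.{u} ℤ) k)
    (specULiftZIsTerminal.from (Spec (CommRingCat.of k)))) (Red.diag (ULift.{u} ℤ) M)
  unfold diagIsoDS
  simp only [Iso.trans_hom]
  infer_instance

/-- A split diagonalisable group over an affine base is `Spec k[M]`. -/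
def diagIsoOfSplit {T : Over (Spec (CommRingCat.of k))} [GrpObj T]
    (h : Red.IsSplitTorusWith M T) : Red.diag k M ≅ T :=
  diagIsoDS k M ≪≫ ((Grp.forget _).mapIso h.some).symm

instance isMonHom_diagIsoOfSplit {T : Over (Spec (CommRingCat.of k))} [GrpObj T]
    (h : Red.IsSplitTorusWith M T) : IsMonHom (diagIsoOfSplit k M h).hom := by
  have : IsMonHom h.some.inv.hom.hom := inferInstance
  show IsMonHom ((diagIsoDS k M).hom ≫ h.some.inv.hom.hom)
  infer_instance

lemma isSplitTorusWith_diag : Red.IsSplitTorusWith M (Red.diag k M) :=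
  ⟨Grp.mkIso' (diagIsoDS k M)⟩

end Z

end Groth.AlgGrp2
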