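/- Points of `GL_n` as matrices (helper57). -/
import Groth.Agent.AlgGrp2.AffinePts
import Groth.Prelude.Def_GLin5

set_option autoImplicit false

universe u

open CategoryTheory MonoidalCategory CartesianMonoidalCategory MonObj AlgebraicGeometry
open scoped TensorProduct

noncomputable section

namespace Groth.AlgGrp2

variable {R : Type u} [CommRing R] {m : ℕ} {L L' : Type u} [CommRing L] [Algebra R L] [CommRing L'] [Algebra R L']

/-- The matrix of an algebra map out of the coordinate ring of `GL_m`. -/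
def glMat (φ : CoordGrp.GLn m R →ₐ[R] L) : Matrix (Fin m) (Fin m) L :=
  Matrix.of fun i j => φ (CoordGrp.GLn.X i j)

lemma glMat_comp (f : L →ₐ[R] L') (φ : CoordGrp.GLn m R →ₐ[R] L) :
    glMat (f.comp φ) = f.mapMatrix (glMat φ) := rfl

lemma det_glMat_mul (φ : CoordGrp.GLn m R →ₐ[R] L) :
    (glMat φ).det * φ CoordGrp.GLn.Dinv = 1 := by
  have : glMat φ = φ.mapMatrix (CoordGrp.GLn.genMat m R) := rfl
  rw [this, ← AlgHom.map_det, ← CoordGrp.GLn.det_eq, ← map_mul, CoordGrp.GLn.det_mul_Dinv, map_one]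

lemma glMat_injective : Function.Injective (glMat (R := R) (m := m) (L := L)) := by
  intro φ ψ h
  refine CoordGrp.GLn.algHom_ext (fun i j => congrFun (congrFun h i) j) ?_
  have h1 := det_glMat_mul φ
  rw [h] at h1
  exact left_inv_eq_right_inv (by rw [mul_comm]; exact h1) (det_glMat_mul ψ)

/-- The matrix of a point of `GL_m`. -/
def ptMat (x : CoactBr.sp R L ⟶ CoactBr.sp R (CoordGrp.GLn m R)) : Matrix (Fin m) (Fin m) L :=
  glMat (pt_surjective x).choose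

lemma ptMat_pt (φ : CoordGrp.GLn m R →ₐ[R] L) : ptMat (CoactBr.pt φ) = glMat φ := by
  rw [ptMat, CoactBr.pt_injective (pt_surjective (CoactBr.pt φ)).choose_spec]

lemma ptMat_injective : Function.Injective (ptMat (R := R) (m := m) (L := L)) := by
  intro x y h
  obtain ⟨φ, rfl⟩ := pt_surjective x
  obtain ⟨ψ, rfl⟩ := pt_surjective y
  rw [ptMat_pt, ptMat_pt] at h
  rw [glMat_injective h]

lemma ptMat_comp (f : L →ₐ[R] L') (x : CoactBr.sp R L ⟶ CoactBr.sp R (CoordGrp.GLn m R)) :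
    ptMat (CoactBr.pt f ≫ x) = f.mapMatrix (ptMat x) := by
  obtain ⟨φ, rfl⟩ := pt_surjective x
  rw [← CoactBr.pt_comp, ptMat_pt, ptMat_pt, glMat_comp]

lemma ptMat_mul (x y : CoactBr.sp R L ⟶ CoactBr.sp R (CoordGrp.GLn m R)) :
    ptMat (x * y) = ptMat x * ptMat y := by
  obtain ⟨φ, rfl⟩ := pt_surjective x
  obtain ⟨ψ, rfl⟩ := pt_surjective y
  rw [CoactBr.pt_mul_pt, ptMat_pt, ptMat_pt, ptMat_pt]
  ext i j
  show (Algebra.TensorProduct.lift φ ψ fun _ _ => .all _ _)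
    (CoalgebraStruct.comul (R := R) (CoordGrp.GLn.X i j : CoordGrp.GLn m R)) = _
  rw [CoordGrp.GLn.comul_X, map_sum, Matrix.mul_apply]
  exact Finset.sum_congr rfl fun l _ => by simp [glMat]

lemma ptMat_one : ptMat (1 : CoactBr.sp R L ⟶ CoactBr.sp R (CoordGrp.GLn m R)) = 1 := by
  rw [CoactBr.one_eq_pt, ptMat_pt]
  ext i j
  show algebraMap R L (CoalgebraStruct.counit (R := R) (CoordGrp.GLn.X i j : CoordGrp.GLn m R)) = _
  rw [CoordGrp.GLn.counit_X, Matrix.one_apply]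
  split <;> simp

lemma exists_ptMat_eq (M : Matrix (Fin m) (Fin m) L) (h : IsUnit M) :
    ∃ x : CoactBr.sp R L ⟶ CoactBr.sp R (CoordGrp.GLn m R), ptMat x = M := by
  obtain ⟨u, hu⟩ := (Matrix.isUnit_iff_isUnit_det M).mp h
  refine ⟨CoactBr.pt (CoordGrp.GLn.pt m R M (↑u⁻¹ : L) (by rw [← hu, Units.mul_inv])), ?_⟩
  rw [ptMat_pt]
  ext i j
  simp [glMat]

lemma isUnit_ptMat (x : CoactBr.sp R L ⟶ CoactBr.sp R (CoordGrp.GLn m R)) : IsUnit (ptMat x) :=
  ⟨⟨ptMat x, ptMat x⁻¹, by rw [← ptMat_mul, mul_inv_cancel, ptMat_one],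
    by rw [← ptMat_mul, inv_mul_cancel, ptMat_one]⟩, rfl⟩

lemma ptMat_inv_eq {x : CoactBr.sp R L ⟶ CoactBr.sp R (CoordGrp.GLn m R)} (u : (Matrix (Fin m) (Fin m) L)ˣ)
    (hu : (u : Matrix (Fin m) (Fin m) L) = ptMat x) : ptMat x⁻¹ = ↑u⁻¹ := by
  refine left_inv_eq_right_inv (a := ptMat x) ?_ (by rw [← hu, Units.mul_inv])
  rw [← ptMat_mul, inv_mul_cancel, ptMat_one]

end Groth.AlgGrp2
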