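/- Matrix representations of finite diagonalisable groups are diagonalisable (helper57). -/
import Mathlib

set_option autoImplicit false

universe u

open scoped TensorProduct

noncomputable section

namespace Groth.AlgGrp2

variable (F : Type u) [Field F] {M : Type} [AddCommGroup M]

/-- The monomial attached to `x`. -/
abbrev mon (x : M) : MonoidAlgebra F (Multiplicative M) := MonoidAlgebra.single (Multiplicative.ofAdd x) 1

lemma mon_mul (x y : M) : mon F x * mon F y = mon F (x + y) := by
  rw [MonoidAlgebra.single_mul_single, one_mul]; rfl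

lemma mon_zero : mon F (0 : M) = 1 := rfl

lemma mon_injective : Function.Injective (mon F (M := M)) := fun x y h =>
  Multiplicative.ofAdd.injective (MonoidAlgebra.single_left_injective one_ne_zero h)

/-- The diagonal matrix of monomials. -/
def dg {m : ℕ} (c : Fin m → M) : Matrix (Fin m) (Fin m) (MonoidAlgebra F (Multiplicative M)) :=
  Matrix.diagonal fun i => mon F (c i)

lemma isUnit_dg {m : ℕ} (c : Fin m → M) : IsUnit (dg F c) := by
  refine ⟨⟨dg F c, dg F (fun i => -c i), ?_, ?_⟩, rfl⟩ <;>
    simp [dg, Matrix.diagonal_mul_diagonal, ← MonoidAlgebra.one_def] <;> rfl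

/-- Constant matrices. -/
abbrev cst (M : Type) [AddCommGroup M] {m : ℕ} (P : Matrix (Fin m) (Fin m) F) :
    Matrix (Fin m) (Fin m) (MonoidAlgebra F (Multiplicative M)) :=
  (algebraMap F (MonoidAlgebra F (Multiplicative M))).mapMatrix P

variable {F}

/-- A matrix of functions on `D(M)` defining a representation. -/
structure IsRep {m : ℕ} (A : Matrix (Fin m) (Fin m) (MonoidAlgebra F (Multiplicative M))) : Prop where
  comul_eq : (Bialgebra.comulAlgHom F (MonoidAlgebra F (Multiplicative M))).mapMatrix A =
    (Algebra.TensorProduct.includeLeft :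
        MonoidAlgebra F (Multiplicative M) →ₐ[F]
          MonoidAlgebra F (Multiplicative M) ⊗[F] MonoidAlgebra F (Multiplicative M)).mapMatrix A *
      (Algebra.TensorProduct.includeRight :
        MonoidAlgebra F (Multiplicative M) →ₐ[F]
          MonoidAlgebra F (Multiplicative M) ⊗[F] MonoidAlgebra F (Multiplicative M)).mapMatrix A
  counit_eq : (Bialgebra.counitAlgHom F (MonoidAlgebra F (Multiplicative M))).mapMatrix A = 1

/-- The coefficient of a monomial. -/
def cf (x : M) : MonoidAlgebra F (Multiplicative M) →ₗ[F] F :=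
  Finsupp.lapply (Multiplicative.ofAdd x) ∘ₗ (MonoidAlgebra.coeffLinearEquiv F).toLinearMap

@[simp] lemma cf_single [DecidableEq M] (x y : M) (r : F) :
    cf x (MonoidAlgebra.single (Multiplicative.ofAdd y) r) = if y = x then r else 0 := by
  show (MonoidAlgebra.single (Multiplicative.ofAdd y) r).coeff (Multiplicative.ofAdd x) = _
  rw [MonoidAlgebra.coeff_single, Finsupp.single_apply]
  simp

lemma sum_cf_mon [Fintype M] (a : MonoidAlgebra F (Multiplicative M)) :
    ∑ x : M, cf x a • mon F x = a := by
  classical
  induction a using MonoidAlgebra.induction_linear with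
  | zero => simp
  | add f g hf hg =>
    simp only [map_add, add_smul, Finset.sum_add_distrib]
    rw [hf, hg]
  | single y r =>
    obtain ⟨y, rfl⟩ := Multiplicative.ofAdd.surjective y
    simp [Finset.sum_ite_eq, mon, MonoidAlgebra.smul_single]

/-- The pair of coefficients on a tensor square. -/
def cf2 (x y : M) :
    MonoidAlgebra F (Multiplicative M) ⊗[F] MonoidAlgebra F (Multiplicative M) →ₗ[F] F :=
  (TensorProduct.lid F F).toLinearMap ∘ₗ TensorProduct.map (cf x) (cf y)

lemma cf2_tmul (x y : M) (a b : MonoidAlgebra F (Multiplicative M)) :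
    cf2 x y (a ⊗ₜ b) = cf x a * cf y b := by simp [cf2]

lemma cf2_comul [DecidableEq M] (x y : M) (a : MonoidAlgebra F (Multiplicative M)) :
    cf2 x y (CoalgebraStruct.comul (R := F) a) = if x = y then cf x a else 0 := by
  induction a using MonoidAlgebra.induction_linear with
  | zero => simp
  | add f g hf hg => rw [map_add, map_add, hf, hg]; split_ifs <;> simp
  | single z r =>
    obtain ⟨z, rfl⟩ := Multiplicative.ofAdd.surjective z
    rw [MonoidAlgebra.comul_single, CommSemiring.comul_apply, TensorProduct.map_tmul, cf2_tmul]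
    simp only [MonoidAlgebra.lsingle_apply, cf_single]
    split_ifs <;> subst_vars <;> simp_all

/-- Every representation of a finite diagonalisable group is diagonalisable. -/
theorem exists_conj_dg [Finite M] {m : ℕ}
    {A : Matrix (Fin m) (Fin m) (MonoidAlgebra F (Multiplicative M))} (hA : IsRep A) :
    ∃ (U : (Matrix (Fin m) (Fin m) F)ˣ) (c : Fin m → M),
      cst F M (U : Matrix (Fin m) (Fin m) F) * A = dg F c * cst F M (U : Matrix (Fin m) (Fin m) F) := by
  classical
  have : Fintype M := Fintype.ofFinite M
  let P : M → Matrix (Fin m) (Fin m) F := fun x => A.map (cf x)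
  have hmul : ∀ x y, P x * P y = if x = y then P x else 0 := by
    intro x y
    ext i j
    have h := congrArg (cf2 x y) (congrFun (congrFun hA.comul_eq i) j)
    simp only [Matrix.mul_apply, AlgHom.mapMatrix_apply, Matrix.map_apply, map_sum,
      Algebra.TensorProduct.includeLeft_apply, Algebra.TensorProduct.includeRight_apply,
      Algebra.TensorProduct.tmul_mul_tmul, mul_one, one_mul, cf2_tmul] at h
    erw [cf2_comul] at h
    simp only [Matrix.mul_apply, P, Matrix.map_apply]
    rw [← h]
    split_ifs with hxy <;> simp_all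
  have hsum : ∑ x, P x = 1 := by
    ext i j
    have h := congrFun (congrFun hA.counit_eq i) j
    simp only [AlgHom.mapMatrix_apply, Matrix.map_apply] at h
    rw [← h, Matrix.sum_apply]
    conv_rhs => rw [← sum_cf_mon (A i j), map_sum]
    exact Finset.sum_congr rfl fun x _ => by simp [P, mon]
  let p : M → ((Fin m → F) →ₗ[F] (Fin m → F)) := fun x => Matrix.toLin' (P x)
  have hp : ∀ x y v, p x (p y v) = if x = y then p x v else 0 := by
    intro x y v
    simp only [p, ← LinearMap.comp_apply, ← Matrix.toLin'_mul, hmul]
    split_ifs <;> simp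
  have hps : ∀ v, ∑ x, p x v = v := by
    intro v
    have := LinearMap.congr_fun (congrArg Matrix.toLin' hsum) v
    simpa [p, map_sum] using this
  let e : (Fin m → F) ≃ₗ[F] ((x : M) → LinearMap.range (p x)) :=
    { toFun := fun v x => ⟨p x v, LinearMap.mem_range_self _ _⟩
      map_add' := fun v w => by ext; simp
      map_smul' := fun r v => by ext; simp
      invFun := fun f => ∑ x, (f x : Fin m → F)
      left_inv := hps
      right_inv := fun f => by
        ext1 x
        apply Subtype.ext
        show p x (∑ y, (f y : Fin m → F)) = _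
        obtain ⟨v, hv⟩ := (f x).2
        rw [map_sum, Finset.sum_eq_single x]
        · rw [← hv, hp, if_pos rfl]
        · intro y _ hy
          obtain ⟨w, hw⟩ := (f y).2
          rw [← hw, hp, if_neg (Ne.symm hy)]
        · simp }
  let b₁ := (Pi.basis fun x => Module.finBasis F (LinearMap.range (p x))).map e.symm
  let b := b₁.reindex (b₁.indexEquiv (Pi.basisFun F (Fin m)))
  let c : Fin m → M := fun i => ((b₁.indexEquiv (Pi.basisFun F (Fin m))).symm i).1
  have hb : ∀ i x, p x (b i) = (if c i = x then (1 : F) else 0) • b i := by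
    intro i x
    set w := (b₁.indexEquiv (Pi.basisFun F (Fin m))).symm i with hw
    have hbi : b i = b₁ w := by simp [b, hw]
    have h1 : (e (b i)) x = ((Pi.single w.1 (Module.finBasis F _ w.2) :
        (x : M) → LinearMap.range (p x))) x := by
      rw [hbi]
      simp [b₁]
    have h2 : p x (b i) = ((e (b i)) x : Fin m → F) := rfl
    rw [h2, h1]
    by_cases hx : c i = x
    · subst hx
      rw [if_pos rfl, one_smul]
      show ((Pi.single w.1 (Module.finBasis F _ w.2) : (x : M) → LinearMap.range (p x)) w.1 : Fin m → F) = b i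
      rw [Pi.single_eq_same, hbi]
      have : b₁ w = e.symm (Pi.single w.1 (Module.finBasis F _ w.2)) := by simp [b₁]
      rw [this]
      show _ = ∑ y, ((Pi.single w.1 (Module.finBasis F _ w.2) : (x : M) → LinearMap.range (p x)) y : Fin m → F)
      rw [Finset.sum_eq_single w.1]
      · rw [Pi.single_eq_same]
      · intro y _ hy; simp [Pi.single_eq_of_ne hy]
      · simp
    · rw [if_neg hx, zero_smul, Pi.single_eq_of_ne (Ne.symm hx)]
      rfl
  let U₀ := (Pi.basisFun F (Fin m)).toMatrix b
  let U₁ := b.toMatrix (Pi.basisFun F (Fin m))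
  have h01 : U₀ * U₁ = 1 := Module.Basis.toMatrix_mul_toMatrix_flip _ _
  have h10 : U₁ * U₀ = 1 := Module.Basis.toMatrix_mul_toMatrix_flip _ _
  refine ⟨⟨U₁, U₀, h10, h01⟩, c, ?_⟩
  have key : ∀ x, P x * U₀ = U₀ * Matrix.diagonal (fun i => if c i = x then (1 : F) else 0) := by
    intro x
    ext l i
    have h := congrFun (hb i x) l
    simp only [p, Matrix.toLin'_apply, Matrix.mulVec, dotProduct, Pi.smul_apply, smul_eq_mul] at h
    simp only [Matrix.mul_apply, U₀, Module.Basis.toMatrix_apply, Pi.basisFun_repr, Matrix.diagonal,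
      Matrix.of_apply, mul_ite, mul_zero, mul_one, Finset.sum_ite_eq', Finset.mem_univ, if_true]
    rw [h]
    split_ifs <;> simp
  have hAU : A * cst F M U₀ = cst F M U₀ * dg F c := by
    refine Matrix.ext fun l i => ?_
    simp only [cst, dg, RingHom.mapMatrix_apply]
    rw [Matrix.mul_diagonal, Matrix.mul_apply]
    simp only [Matrix.map_apply]
    rw [← sum_cf_mon (∑ j, _), ← sum_cf_mon (algebraMap F _ (U₀ l i) * mon F (c i))]
    refine Finset.sum_congr rfl fun x _ => ?_
    congr 1
    have h := congrFun (congrFun (key x) l) i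
    rw [Matrix.mul_diagonal] at h
    simp only [Matrix.mul_apply, P, Matrix.map_apply, mul_ite, mul_one, mul_zero] at h
    simp only [Matrix.mul_apply, Matrix.map_apply, map_sum, ← Algebra.commutes, ← Algebra.smul_def,
      map_smul, cf_single, smul_eq_mul, mul_ite, mul_one, mul_zero]
    rw [← h]
    exact Finset.sum_congr rfl fun j _ => mul_comm _ _
  show cst F M U₁ * A = dg F c * cst F M U₁
  calc cst F M U₁ * A = cst F M U₁ * (A * cst F M U₀) * cst F M U₁ := by
        simp only [cst, _root_.mul_assoc]
        rw [← map_mul (RingHom.mapMatrix _), h01, map_one, _root_.mul_one]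
    _ = dg F c * cst F M U₁ := by
        rw [hAU, ← _root_.mul_assoc, ← map_mul (RingHom.mapMatrix _), h10, map_one, _root_.one_mul]

end Groth.AlgGrp2
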