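/- Fixed loci over a field (helper57). -/
import Mathlib
import Groth.Agent.AlgGrp2.EqLocus

set_option autoImplicit false

universe u

open CategoryTheory CategoryTheory.Limits MonoidalCategory CartesianMonoidalCategory AlgebraicGeometry

noncomputable section

namespace Groth.AlgGrp2

lemma _root_.Module.Projective.of_free' {R : Type u} [CommRing R] (h : IsField R) (M : Type u)
    [AddCommGroup M] [Module R M] : Module.Projective R M := by
  letI := h.toField
  haveI := Module.Free.of_divisionRing R M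
  exact Module.Projective.of_free

/-- A chart whose factor is a module over a field. -/
lemma eqLocusChart_field {k : Type u} [Field k] {Y T H : Over (Spec (CommRingCat.of k))}
    (f g : Y ⊗ T ⟶ H) (U : T.left.affineOpens) (y : Y.left) (H' : H.left.Opens)
    [IsSeparated (H'.ι ≫ H.hom)]
    (hle : (snd Y T).left ⁻¹ᵁ U.1 ≤ f.left ⁻¹ᵁ H' ⊓ g.left ⁻¹ᵁ H') :
    EqLocusChart f g ⟨⊤, isAffineOpen_top _⟩ U y := by
  obtain ⟨_, ⟨V, hV, rfl⟩, hyV, -⟩ :=
    Y.left.isBasis_affineOpens.exists_subset_of_mem_open (Set.mem_univ y) isOpen_univ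
  refine ⟨⟨V, hV⟩, le_top, H', hyV, ?_, inferInstance, inf_le_right.trans hle⟩
  letI := (Y.hom.appLE ⊤ V le_top).hom.toAlgebra
  have hF : IsField Γ(Spec (CommRingCat.of k), ⊤) :=
    (Scheme.ΓSpecIso (CommRingCat.of k)).commRingCatIsoToRingEquiv.toMulEquiv.isField
      (Field.toIsField k)
  haveI := Module.Projective.of_free' hF Γ(Y.left, V)
  exact this

/-- The fixed locus of a family of endomorphisms over a field. -/
theorem exists_fixedLocus_field {k : Type u} [Field k] {X Y : Over (Spec (CommRingCat.of k))}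
    (a : Y ⊗ X ⟶ X)
    (h : ∀ x : X.left, ∃ (U : X.left.affineOpens) (H' : X.left.Opens), x ∈ U.1 ∧
      IsSeparated (H'.ι ≫ X.hom) ∧ U.1 ≤ H' ∧ (snd Y X).left ⁻¹ᵁ U.1 ≤ a.left ⁻¹ᵁ H') :
    ∃ (Z : Over (Spec (CommRingCat.of k))) (j : Z ⟶ X), IsClosedImmersion j.left ∧
      (Y ◁ j) ≫ a = snd Y Z ≫ j ∧
      ∀ (T : Over (Spec (CommRingCat.of k))) (x : T ⟶ X),
        (Y ◁ x) ≫ a = snd Y T ≫ x → ∃ z : T ⟶ Z, z ≫ j = x := by
  obtain ⟨Z, j, hj, hZ⟩ := exists_closed_equalizer a (snd Y X) fun x => by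
    obtain ⟨U, H', hx, hsep, hUH, hle⟩ := h x
    refine ⟨⟨⊤, isAffineOpen_top _⟩, U, hx, le_top, fun y _ => ?_⟩
    exact eqLocusChart_field a (snd Y X) U y H' (le_inf hle fun p hp => hUH hp)
  refine ⟨Z, j, hj, ?_, fun T x hx => (hZ T x).mp (hx.trans (whiskerLeft_snd Y x).symm)⟩
  exact ((hZ Z j).mpr ⟨𝟙 _, Category.id_comp _⟩).trans (whiskerLeft_snd Y j)

end Groth.AlgGrp2
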