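/- Group laws on the affine line and on the punctured line (helper57). -/
import Groth.Prelude.Def_Red2
import Groth.Agent.Reductive.Points

set_option autoImplicit false

universe u

open CategoryTheory MonoidalCategory CartesianMonoidalCategory AlgebraicGeometry
open Polynomial

noncomputable section

namespace Groth.AlgGrp2.LineLaws

/-- Units of Laurent polynomials over a domain. -/
lemma exists_monomial_of_isUnit {A : Type*} [CommRing A] [IsDomain A] (f : LaurentPolynomial A)
    (hf : IsUnit f) : ∃ (c : A) (n : ℤ), IsUnit c ∧ f = LaurentPolynomial.C c * LaurentPolynomial.T n := by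
  obtain ⟨g, hg⟩ := hf.exists_right_inv
  obtain ⟨m, p, hp⟩ := LaurentPolynomial.exists_T_pow f
  obtain ⟨n, q, hq⟩ := LaurentPolynomial.exists_T_pow g
  have hpq : p * q = X ^ (m + n) := by
    apply Polynomial.toLaurent_injective
    rw [map_mul, hp, hq, toLaurent_X_pow, mul_mul_mul_comm, hg, _root_.one_mul,
      ← LaurentPolynomial.T_add, Nat.cast_add]
  obtain ⟨i, -, hi⟩ := (dvd_prime_pow Polynomial.prime_X _).mp (Dvd.intro q hpq)
  obtain ⟨v, hv⟩ := hi.symm
  obtain ⟨c, hc, hcv⟩ := Polynomial.isUnit_iff.mp v.isUnit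
  refine ⟨c, (i : ℤ) - m, hc, ?_⟩
  have h2 : f * LaurentPolynomial.T (m : ℤ) = LaurentPolynomial.C c * LaurentPolynomial.T (i : ℤ) := by
    rw [← hp, ← hv, ← hcv, mul_comm, toLaurent_C_mul_eq, toLaurent_X_pow]
  calc f = f * LaurentPolynomial.T (m : ℤ) * LaurentPolynomial.T (-(m : ℤ)) := by
        rw [_root_.mul_assoc, ← LaurentPolynomial.T_add, add_neg_cancel, LaurentPolynomial.T_zero,
          _root_.mul_one]
    _ = LaurentPolynomial.C c * LaurentPolynomial.T ((i : ℤ) - m) := by
        rw [h2, _root_.mul_assoc, ← LaurentPolynomial.T_add, sub_eq_add_neg]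

variable {k : Type u} [Field k]

local notation "S₀" => Spec (CommRingCat.of k)

variable (k) in
/-- The affine test object of a `k`-algebra. -/
abbrev tst (R : Type u) [CommRing R] [Algebra k R] : Over S₀ :=
  Over.mk (Spec.map (CommRingCat.ofHom (algebraMap k R)))

variable {R R' : Type u} [CommRing R] [Algebra k R] [CommRing R'] [Algebra k R']

/-- The morphism of test objects of an algebra map. -/
def tstMap (φ : R →ₐ[k] R') : tst k R' ⟶ tst k R :=
  Over.homMk (Spec.map (CommRingCat.ofHom φ.toRingHom)) (by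
    show Spec.map _ ≫ Spec.map _ = Spec.map _
    rw [← Spec.map_comp, ← CommRingCat.ofHom_comp]
    congr 2
    exact φ.comp_algebraMap)

/-- Coordinate of a point of the affine line. -/
def ga (x : tst k R ⟶ Red.Ga S₀) : R := (Scheme.ΓSpecIso (CommRingCat.of R)).hom (Red.gaFn x)

/-- The point of the affine line with a given coordinate. -/
def gaPt (a : R) : tst k R ⟶ Red.Ga S₀ :=
  Reductive.gaMk (tst k R) ((Scheme.ΓSpecIso (CommRingCat.of R)).inv a)

@[simp] lemma ga_gaPt (a : R) : ga (gaPt (k := k) a) = a := by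
  unfold ga gaPt
  erw [Reductive.gaFn_gaMk]
  exact ConcreteCategory.congr_hom (Scheme.ΓSpecIso (CommRingCat.of R)).inv_hom_id a

lemma ga_injective {x y : tst k R ⟶ Red.Ga S₀} (h : ga x = ga y) : x = y :=
  Reductive.gaFn_injective
    ((ConcreteCategory.bijective_of_isIso (Scheme.ΓSpecIso (CommRingCat.of R)).hom).1 h)

lemma ga_comp (φ : R →ₐ[k] R') (x : tst k R ⟶ Red.Ga S₀) : ga (tstMap φ ≫ x) = φ (ga x) := by
  unfold ga
  rw [Reductive.gaFn_comp]
  exact ConcreteCategory.congr_hom (Scheme.ΓSpecIso_naturality (CommRingCat.ofHom φ.toRingHom)) _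

lemma gaPt_comp (φ : R →ₐ[k] R') (a : R) : tstMap φ ≫ gaPt (k := k) a = gaPt (φ a) :=
  ga_injective (by rw [ga_comp, ga_gaPt, ga_gaPt])

/-- A binary operation on points of `Ga` induced by a morphism. -/
def op (μ : Red.Ga S₀ ⊗ Red.Ga S₀ ⟶ Red.Ga S₀) (a b : R) : R :=
  ga (lift (gaPt a) (gaPt b) ≫ μ)

lemma op_map (μ : Red.Ga S₀ ⊗ Red.Ga S₀ ⟶ Red.Ga S₀) (φ : R →ₐ[k] R') (a b : R) :
    φ (op μ a b) = op μ (φ a) (φ b) := by
  rw [op, op, ← ga_comp, comp_lift_assoc, gaPt_comp, gaPt_comp]

section Law

/-- The universal value of the operation, a polynomial in the first variable. -/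
def lawPoly (μ : Red.Ga S₀ ⊗ Red.Ga S₀ ⟶ Red.Ga S₀) : k[X][X] := op (k := k) (R := k[X][X]) μ (Polynomial.X : k[X][X]) (C (Polynomial.X : k[X]))

lemma op_eq_eval (μ : Red.Ga S₀ ⊗ Red.Ga S₀ ⟶ Red.Ga S₀) (a b : R) :
    op (k := k) (R := R) μ a b = eval₂ (aeval b : k[X] →ₐ[k] R).toRingHom a (lawPoly (k := k) μ) := by
  let φ : k[X][X] →ₐ[k] R :=
    { eval₂RingHom (aeval b : k[X] →ₐ[k] R).toRingHom a with
      commutes' := fun r => by simp [Polynomial.algebraMap_def] }
  have h := op_map μ φ (Polynomial.X : k[X][X]) (C (Polynomial.X : k[X]))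
  rw [show φ Polynomial.X = a by simp [φ], show φ (C (Polynomial.X : k[X])) = b by simp [φ]] at h
  exact h.symm

end Law

/-- A group law on the affine line with unit `e` is `x + y - e`. -/
theorem law_eq (h : GrpObj (Red.Ga S₀)) : ∃ e : k,
    e = ga (toUnit (tst k k) ≫ h.one) ∧
      ∀ {R : Type u} [CommRing R] [Algebra k R] (a b : R),
        op h.mul a b = a + b - algebraMap k R e := by
  let e : k := ga (toUnit (tst k k) ≫ h.one)
  refine ⟨e, rfl, ?_⟩
  have hone : ∀ {R : Type u} [CommRing R] [Algebra k R],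
      ga (toUnit (tst k R) ≫ h.one) = algebraMap k R e := by
    intro R _ _
    rw [show algebraMap k R e = Algebra.ofId k R e from rfl, ← ga_comp, ← Category.assoc]
    congr 2; exact toUnit_unique _ _
  have hleft : ∀ {R : Type u} [CommRing R] [Algebra k R] (a : R),
      op h.mul (algebraMap k R e) a = a := by
    intro R _ _ a
    have h1 : gaPt (algebraMap k R e) = toUnit (tst k R) ≫ h.one :=
      ga_injective (by rw [ga_gaPt, hone])
    have h2 : lift (toUnit (tst k R) ≫ h.one) (gaPt a) =
        lift (toUnit (tst k R)) (gaPt a) ≫ (h.one ▷ Red.Ga S₀) := by simp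
    rw [op, h1, h2, Category.assoc, h.toMonObj.one_mul, leftUnitor_hom, lift_snd]
    exact ga_gaPt a
  have hright : ∀ {R : Type u} [CommRing R] [Algebra k R] (a : R),
      op h.mul a (algebraMap k R e) = a := by
    intro R _ _ a
    have h1 : gaPt (algebraMap k R e) = toUnit (tst k R) ≫ h.one :=
      ga_injective (by rw [ga_gaPt, hone])
    have h2 : lift (gaPt a) (toUnit (tst k R) ≫ h.one) =
        lift (gaPt a) (toUnit (tst k R)) ≫ (Red.Ga S₀ ◁ h.one) := by simp
    rw [op, h1, h2, Category.assoc, h.toMonObj.mul_one, rightUnitor_hom, lift_fst]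
    exact ga_gaPt a
  have hassoc : ∀ {R : Type u} [CommRing R] [Algebra k R] (a b c : R),
      op h.mul (op h.mul a b) c = op h.mul a (op h.mul b c) := by
    intro R _ _ a b c
    have hp : ∀ x y : R, gaPt (op h.mul x y) = lift (gaPt x) (gaPt y) ≫ h.mul :=
      fun x y => ga_injective (by rw [ga_gaPt]; rfl)
    have := congrArg (lift (lift (gaPt a) (gaPt b)) (gaPt c) ≫ ·) h.toMonObj.mul_assoc
    simp only [lift_whiskerRight_assoc, lift_lift_associator_hom_assoc,
      lift_whiskerLeft_assoc] at this
    show ga _ = ga _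
    rw [hp, hp]
    exact congrArg ga this
  have hinv : ∃ i : k[X], op h.mul i Polynomial.X = algebraMap k k[X] e := by
    refine ⟨ga (gaPt (Polynomial.X : k[X]) ≫ h.inv), ?_⟩
    have hp : gaPt (ga (gaPt (Polynomial.X : k[X]) ≫ h.inv)) = gaPt (Polynomial.X : k[X]) ≫ h.inv :=
      ga_injective (ga_gaPt _)
    have := congrArg (gaPt (Polynomial.X : k[X]) ≫ ·) h.left_inv
    simp only [comp_lift_assoc, Category.comp_id, comp_toUnit_assoc] at this
    rw [op, hp, ← hone]
    exact congrArg ga this
  -- the degree in the first variable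
  let P := lawPoly (k := k) h.mul
  have hdeg : P.natDegree ≤ 1 := by
    let φ₀ : k[X] →ₐ[k] k[X][X] := aeval (Polynomial.X : k[X][X])
    let φ₁ : k[X] →ₐ[k] k[X][X] := aeval (C (Polynomial.X : k[X]))
    let w : k[X][X] := op h.mul (Polynomial.X : k[X][X]) (C (Polynomial.X : k[X]))
    let u : k[X][X][X] := op h.mul (Polynomial.X : k[X][X][X]) (C (Polynomial.X : k[X][X]))
    have e1 : u = P.map φ₀.toRingHom := by
      show op h.mul _ _ = _
      rw [op_eq_eval]
      refine congrArg (fun F => eval₂ F _ P) (Polynomial.ringHom_ext (fun p => ?_) ?_)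
      · simp [φ₀]
      · simp [φ₀]
    have e2 : op h.mul u (C (C (Polynomial.X : k[X]))) = (P.map φ₁.toRingHom).comp u := by
      rw [op_eq_eval, Polynomial.comp, eval₂_map]
      refine congrArg (fun F => eval₂ F u P) (Polynomial.ringHom_ext (fun p => ?_) ?_)
      · simp [φ₁]
      · simp [φ₁]
    have e3 : op h.mul (Polynomial.X : k[X][X][X]) (C w) = P.map (aeval w : k[X] →ₐ[k] _).toRingHom := by
      rw [op_eq_eval]
      refine congrArg (fun F => eval₂ F _ P) (Polynomial.ringHom_ext (fun p => ?_) ?_)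
      · simp
      · simp
    have hw : C w = op h.mul (C (Polynomial.X : k[X][X]) : k[X][X][X]) (C (C (Polynomial.X : k[X]))) := by
      let Cw : k[X][X] →ₐ[k] k[X][X][X] := { (C : k[X][X] →+* k[X][X][X]) with commutes' := fun r => rfl }
      exact op_map (k := k) (R := k[X][X]) (R' := k[X][X][X]) h.mul Cw _ _
    have key := hassoc (Polynomial.X : k[X][X][X]) (C (Polynomial.X : k[X][X]))
      (C (C (Polynomial.X : k[X])))
    rw [← hw, e2, e3] at key
    have hinj0 : Function.Injective φ₀.toRingHom := by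
      intro p q hpq
      have := congrArg (Polynomial.mapAlgHom (aeval (R := k) (0 : k))) hpq
      change Polynomial.mapAlgHom _ (aeval _ p) = Polynomial.mapAlgHom _ (aeval _ q) at this
      rw [← aeval_algHom_apply, ← aeval_algHom_apply] at this
      simpa using this
    have hinj1 : Function.Injective φ₁.toRingHom := by
      intro p q hpq
      have : C (aeval (Polynomial.X : k[X]) p) = C (aeval (Polynomial.X : k[X]) q) := by
        rw [← CAlgHom_apply (R := k), ← CAlgHom_apply (R := k), ← aeval_algHom_apply,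
          ← aeval_algHom_apply]
        exact hpq
      simpa using this
    have hd := congrArg natDegree key
    rw [natDegree_comp, natDegree_map_eq_of_injective hinj1, e1,
      natDegree_map_eq_of_injective hinj0] at hd
    have := hd.trans_le natDegree_map_le
    nlinarith
  obtain ⟨b, a, hP⟩ := exists_eq_X_add_C_of_natDegree_le_one hdeg
  have hev : ∀ {R : Type u} [CommRing R] [Algebra k R] (x y : R),
      op h.mul x y = aeval y b * x + aeval y a := by
    intro R _ _ x y
    rw [op_eq_eval, show lawPoly (k := k) h.mul = _ from hP]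
    simp
  have hy : b * C e + a = Polynomial.X := by
    have := hleft (Polynomial.X : k[X])
    rw [hev] at this
    simpa using this
  have hbe : b.eval e = 1 := by
    have h0 := hright (R := k) 0
    have h1 := hright (R := k) 1
    rw [hev] at h0 h1
    simp only [Algebra.algebraMap_self_apply, coe_aeval_eq_eval, mul_zero, zero_add] at h0
    simp only [Algebra.algebraMap_self_apply, coe_aeval_eq_eval, h0, add_zero, mul_one] at h1
    exact h1
  have hb : b = 1 := by
    obtain ⟨i, hi⟩ := hinv
    rw [hev, aeval_X_left_apply, aeval_X_left_apply, algebraMap_eq] at hi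
    have hprod : b * (i - C e) = C e - Polynomial.X := by
      linear_combination hi - hy
    have hne : C e - Polynomial.X ≠ 0 := fun hz => by
      have := congrArg (fun p => p.coeff 1) hz
      simp at this
    have hd : b.natDegree + (i - C e).natDegree = 1 := by
      rw [← natDegree_mul (fun h0 => hne (by rw [← hprod, h0, zero_mul]))
        (fun h0 => hne (by rw [← hprod, h0, mul_zero])), hprod, ← natDegree_neg, neg_sub,
        natDegree_X_sub_C]
    by_cases hb0 : b.natDegree = 0
    · rw [eq_C_of_natDegree_eq_zero hb0] at hbe ⊢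
      rw [eval_C] at hbe
      rw [hbe, map_one]
    · exfalso
      have hi0 : (i - C e).natDegree = 0 := by omega
      have := congrArg (Polynomial.eval e) hprod
      rw [eval_mul, hbe, _root_.one_mul, eq_C_of_natDegree_eq_zero hi0, eval_C, eval_sub, eval_C,
        eval_X, sub_self] at this
      rw [eq_C_of_natDegree_eq_zero hi0, this, map_zero, mul_zero] at hprod
      exact hne hprod.symm
  intro R _ _ x y
  rw [hb, _root_.one_mul] at hy
  rw [hev, hb, map_one, _root_.one_mul, eq_sub_of_add_eq' hy, map_sub, aeval_X, aeval_C]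
  ring

/-- Coordinate of a point of the punctured line. -/
def gm (x : tst k R ⟶ Red.Gm S₀) : R := (Scheme.ΓSpecIso (CommRingCat.of R)).hom (Red.gmFn x)

/-- The point of the punctured line with a given coordinate. -/
def gmPt (a : Rˣ) : tst k R ⟶ Red.Gm S₀ :=
  Reductive.gmMk (tst k R) (a.map (Scheme.ΓSpecIso (CommRingCat.of R)).inv.hom.toMonoidHom)

@[simp] lemma gm_gmPt (a : Rˣ) : gm (gmPt (k := k) a) = a := by
  unfold gm gmPt
  erw [Reductive.gmFn_gmMk]
  exact ConcreteCategory.congr_hom (Scheme.ΓSpecIso (CommRingCat.of R)).inv_hom_id (a : R)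

lemma gm_injective {x y : tst k R ⟶ Red.Gm S₀} (h : gm x = gm y) : x = y :=
  Reductive.gmFn_injective
    ((ConcreteCategory.bijective_of_isIso (Scheme.ΓSpecIso (CommRingCat.of R)).hom).1 h)

lemma isUnit_gm (x : tst k R ⟶ Red.Gm S₀) : IsUnit (gm x) :=
  (Reductive.isUnit_gmFn x).map (Scheme.ΓSpecIso (CommRingCat.of R)).hom.hom

lemma gm_comp (φ : R →ₐ[k] R') (x : tst k R ⟶ Red.Gm S₀) : gm (tstMap φ ≫ x) = φ (gm x) := by
  unfold gm
  rw [Reductive.gmFn_comp]
  exact ConcreteCategory.congr_hom (Scheme.ΓSpecIso_naturality (CommRingCat.ofHom φ.toRingHom)) _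

lemma gmPt_comp (φ : R →ₐ[k] R') (a : Rˣ) :
    tstMap φ ≫ gmPt (k := k) a = gmPt (Units.map φ.toRingHom.toMonoidHom a) :=
  gm_injective (by rw [gm_comp, gm_gmPt, gm_gmPt]; rfl)

/-- A group law on the punctured line with unit `e` is `x y / e`. -/
theorem gm_law_eq (h : GrpObj (Red.Gm S₀)) : ∃ e : kˣ,
    (e : k) = gm (toUnit (tst k k) ≫ h.one) ∧
      ∀ {R : Type u} [CommRing R] [Algebra k R] (a b : Rˣ),
        gm (lift (gmPt a) (gmPt b) ≫ h.mul) = a * b * algebraMap k R (e⁻¹ : kˣ) := by
  let A := LaurentPolynomial k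
  let P : LaurentPolynomial A := gm (lift
    (gmPt (k := k) (LaurentPolynomial.isUnit_T (R := A) 1).unit)
    (gmPt (k := k) ((LaurentPolynomial.isUnit_T (R := k) 1).map
      (LaurentPolynomial.C : A →+* LaurentPolynomial A)).unit) ≫ h.mul)
  obtain ⟨c, n, hc, hP⟩ := exists_monomial_of_isUnit P (isUnit_gm _)
  let e : kˣ := (isUnit_gm (toUnit (tst k k) ≫ h.one)).unit
  refine ⟨e, rfl, ?_⟩
  let ev : ∀ {R : Type u} [CommRing R] [Algebra k R] (b : Rˣ), A →ₐ[k] R := fun {R} _ _ b =>
    { LaurentPolynomial.eval₂ (algebraMap k R) b with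
      commutes' := fun r => by
        show LaurentPolynomial.eval₂ _ _ (LaurentPolynomial.C r) = _
        simp }
  have hev : ∀ {R : Type u} [CommRing R] [Algebra k R] (a b : Rˣ),
      gm (lift (gmPt a) (gmPt b) ≫ h.mul) = ev b c * ((a ^ n : Rˣ) : R) := by
    intro R _ _ a b
    let φ : LaurentPolynomial A →ₐ[k] R :=
      { LaurentPolynomial.eval₂ (ev b).toRingHom a with
        commutes' := fun r => by
          show LaurentPolynomial.eval₂ _ _ (LaurentPolynomial.C (algebraMap k A r)) = _
          rw [LaurentPolynomial.eval₂_C]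
          exact (ev b).commutes r }
    have hφ := congrArg φ hP
    rw [show φ P = gm (tstMap φ ≫ _) from (gm_comp φ _).symm, comp_lift_assoc, gmPt_comp,
      gmPt_comp] at hφ
    have ha : Units.map φ.toRingHom.toMonoidHom (LaurentPolynomial.isUnit_T (R := A) 1).unit = a := by
      ext
      show LaurentPolynomial.eval₂ _ _ (LaurentPolynomial.T 1) = _
      simp
    have hb : Units.map φ.toRingHom.toMonoidHom ((LaurentPolynomial.isUnit_T (R := k) 1).map
        (LaurentPolynomial.C : A →+* LaurentPolynomial A)).unit = b := by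
      ext
      show LaurentPolynomial.eval₂ _ _ (LaurentPolynomial.C (LaurentPolynomial.T 1)) = _
      rw [LaurentPolynomial.eval₂_C]
      show LaurentPolynomial.eval₂ _ _ (LaurentPolynomial.T 1) = _
      simp
    rw [ha, hb] at hφ
    rw [hφ]
    show LaurentPolynomial.eval₂ _ _ (LaurentPolynomial.C c * LaurentPolynomial.T n) = _
    simp [ev]
  have hone : ∀ {R : Type u} [CommRing R] [Algebra k R],
      gm (toUnit (tst k R) ≫ h.one) = algebraMap k R e := by
    intro R _ _
    rw [show algebraMap k R e = Algebra.ofId k R (gm (toUnit (tst k k) ≫ h.one)) from rfl,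
      ← gm_comp, ← Category.assoc]
    congr 2; exact toUnit_unique _ _
  have hr : ∀ {R : Type u} [CommRing R] [Algebra k R] (a : Rˣ),
      gm (lift (gmPt a) (gmPt (Units.map (algebraMap k R).toMonoidHom e)) ≫ h.mul) = a := by
    intro R _ _ a
    have h1 : gmPt (Units.map (algebraMap k R).toMonoidHom e) = toUnit (tst k R) ≫ h.one :=
      gm_injective (by rw [gm_gmPt, hone]; rfl)
    have h2 : lift (gmPt a) (toUnit (tst k R) ≫ h.one) =
        lift (gmPt a) (toUnit (tst k R)) ≫ (Red.Gm S₀ ◁ h.one) := by simp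
    rw [h1, h2, Category.assoc, h.toMonObj.mul_one, rightUnitor_hom, lift_fst]
    exact gm_gmPt a
  have hl : ∀ {R : Type u} [CommRing R] [Algebra k R] (a : Rˣ),
      gm (lift (gmPt (Units.map (algebraMap k R).toMonoidHom e)) (gmPt a) ≫ h.mul) = a := by
    intro R _ _ a
    have h1 : gmPt (Units.map (algebraMap k R).toMonoidHom e) = toUnit (tst k R) ≫ h.one :=
      gm_injective (by rw [gm_gmPt, hone]; rfl)
    have h2 : lift (toUnit (tst k R) ≫ h.one) (gmPt a) =
        lift (toUnit (tst k R)) (gmPt a) ≫ (h.one ▷ Red.Gm S₀) := by simp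
    rw [h1, h2, Category.assoc, h.toMonObj.one_mul, leftUnitor_hom, lift_snd]
    exact gm_gmPt a
  let Z : Aˣ := (LaurentPolynomial.isUnit_T (R := k) 1).unit
  have hn : n = 1 := by
    have h1 := hr Z
    rw [hev] at h1
    have hc0 : ev (Units.map (algebraMap k A).toMonoidHom e) c =
        algebraMap k A (ev (R := k) e c) := by
      have : (Algebra.ofId k A).comp (ev (R := k) e) =
          ev (R := A) (Units.map (algebraMap k A).toMonoidHom e) := by
        apply AlgHom.ext
        intro q
        refine congrArg (fun F : LaurentPolynomial k →+* A => F q) (a₁ := ((Algebra.ofId k A).comp (ev (R := k) e)).toRingHom)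
          (a₂ := (ev (R := A) (Units.map (algebraMap k A).toMonoidHom e)).toRingHom) ?_
        refine IsLocalization.ringHom_ext (Submonoid.powers (Polynomial.X : k[X])) (Polynomial.ringHom_ext ?_ ?_)
        · intro r
          show algebraMap k A (LaurentPolynomial.eval₂ _ _ (toLaurent (C r))) =
            LaurentPolynomial.eval₂ _ _ (toLaurent (C r))
          simp
        show algebraMap k A (LaurentPolynomial.eval₂ _ _ (toLaurent Polynomial.X)) =
          LaurentPolynomial.eval₂ _ _ (toLaurent Polynomial.X)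
        rw [toLaurent_X]
        show algebraMap k A (LaurentPolynomial.eval₂ _ _ (LaurentPolynomial.T 1)) =
          LaurentPolynomial.eval₂ _ _ (LaurentPolynomial.T 1)
        simp
      exact (DFunLike.congr_fun this c).symm
    have hZ : ((Z ^ n : Aˣ) : A) = LaurentPolynomial.T n := by
      let ψ : Multiplicative ℤ →* Aˣ := zpowersHom _ Z
      rcases Int.eq_nat_or_neg n with ⟨m, rfl | rfl⟩
      · rw [zpow_natCast, Units.val_pow_eq_pow_val, IsUnit.unit_spec, LaurentPolynomial.T_pow,
          mul_one]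
      · apply (LaurentPolynomial.isUnit_T (R := k) (m : ℤ)).mul_left_inj.mp
        rw [← LaurentPolynomial.T_add, neg_add_cancel, LaurentPolynomial.T_zero,
          show (LaurentPolynomial.T (m : ℤ) : A) = ((Z ^ (m : ℤ) : Aˣ) : A) by
            rw [zpow_natCast, Units.val_pow_eq_pow_val, IsUnit.unit_spec, LaurentPolynomial.T_pow,
              mul_one], ← Units.val_mul, ← zpow_add, neg_add_cancel, zpow_zero, Units.val_one]
    rw [hc0, hZ, IsUnit.unit_spec] at h1
    have h2 := congrArg LaurentPolynomial.degree h1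
    have h3 : (LaurentPolynomial.degree (R := k)) (LaurentPolynomial.C (ev (R := k) e c) *
        LaurentPolynomial.T n) = n :=
      LaurentPolynomial.degree_C_mul_T n _ ((hc.map (ev (R := k) e)).ne_zero)
    rw [show algebraMap k A (ev (R := k) e c) = LaurentPolynomial.C (ev (R := k) e c) from rfl,
      h3, LaurentPolynomial.degree_T] at h2
    exact_mod_cast h2
  subst hn
  intro R _ _ a b
  have h1 := hl b
  rw [hev] at h1
  rw [hev, zpow_one] at *
  have he : algebraMap k R (e⁻¹ : kˣ) * algebraMap k R (e : k) = 1 := by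
    rw [← map_mul, ← Units.val_mul, inv_mul_cancel, Units.val_one, map_one]
  have h1' : ev b c * algebraMap k R (e : k) = b := h1
  linear_combination ((algebraMap k R (e⁻¹ : kˣ)) * (a : R)) * h1' - (ev b c * (a : R)) * he

/-- Morphisms of `k`-schemes agree if they agree on points with values in `k`-algebras. -/
lemma hom_ext_tst {X Y : Over S₀} {f g : X ⟶ Y}
    (h : ∀ (R : Type u) [CommRing R] [Algebra k R] (x : tst k R ⟶ X), x ≫ f = x ≫ g) : f = g := by
  ext1
  suffices H : ∀ (C : CommRingCat.{u}) (q : Spec C ⟶ X.left), q ≫ f.left = q ≫ g.left from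
    Scheme.Cover.hom_ext X.left.affineCover _ _ fun i => H _ _
  intro C q
  obtain ⟨ψ, hψ⟩ : ∃ ψ, Spec.map ψ = q ≫ X.hom := ⟨_, Spec.map_preimage _⟩
  letI : Algebra k C := RingHom.toAlgebra (R := k) ψ.hom
  exact congrArg CommaMorphism.left (h C (Over.homMk (U := tst k C) q hψ.symm))

/-- Two group laws on the affine line with the same unit have the same multiplication. -/
theorem ga_mul_unique (h₁ h₂ : GrpObj (Red.Ga S₀)) (e : h₁.one = h₂.one) : h₁.mul = h₂.mul := by
  obtain ⟨e₁, he₁, H₁⟩ := law_eq h₁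
  obtain ⟨e₂, he₂, H₂⟩ := law_eq h₂
  refine hom_ext_tst fun R _ _ x => ga_injective ?_
  have hx : x = lift (gaPt (ga (x ≫ fst _ _))) (gaPt (ga (x ≫ snd _ _))) := by
    apply CartesianMonoidalCategory.hom_ext <;> simp only [lift_fst, lift_snd] <;>
      exact ga_injective (ga_gaPt _).symm
  rw [hx]
  refine (H₁ _ _).trans (Eq.trans ?_ (H₂ _ _).symm)
  rw [he₁, he₂, e]

/-- Two group laws on the punctured line with the same unit have the same multiplication. -/
theorem gm_mul_unique (h₁ h₂ : GrpObj (Red.Gm S₀)) (e : h₁.one = h₂.one) : h₁.mul = h₂.mul := by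
  obtain ⟨e₁, he₁, H₁⟩ := gm_law_eq h₁
  obtain ⟨e₂, he₂, H₂⟩ := gm_law_eq h₂
  refine hom_ext_tst fun R _ _ x => gm_injective ?_
  have hx : x = lift (gmPt (isUnit_gm (x ≫ fst _ _)).unit) (gmPt (isUnit_gm (x ≫ snd _ _)).unit) := by
    apply CartesianMonoidalCategory.hom_ext <;> simp only [lift_fst, lift_snd] <;>
      exact gm_injective ((gm_gmPt _).trans (IsUnit.unit_spec _)).symm
  rw [hx]
  refine (H₁ _ _).trans (Eq.trans ?_ (H₂ _ _).symm)
  rw [show e₁ = e₂ from Units.ext (by rw [he₁, he₂, e])]

end Groth.AlgGrp2.LineLaws
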