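/- Diagonalisable subgroups of `GL_m` (helper57). -/
import Groth.Agent.AlgGrp2.DiagBaseChange
import Groth.Agent.AlgGrp2.GLnPts
import Groth.Agent.AlgGrp2.DiagRep
import Groth.Prelude.Def_AGF

set_option autoImplicit false

universe u

open CategoryTheory MonoidalCategory CartesianMonoidalCategory MonObj AlgebraicGeometry
open scoped TensorProduct

noncomputable section

namespace Groth.AlgGrp2

variable {k : Type u} [Field k] {m : ℕ} {M : Type} [AddCommGroup M]

/-- A homomorphism `D_K(M) ⟶ GL_{m,K}` gives a representation matrix. -/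
lemma isRep_ptMat {K : Type u} [Field K] [Algebra k K]
    (t : Red.diag K M ⟶ Red.bc (str k K) (CoactBr.sp k (CoordGrp.GLn m k))) [IsMonHom t] :
    IsRep (ptMat (affPt k t)) := by
  constructor
  · have hm : (CoactBr.pt (Algebra.TensorProduct.includeLeft :
          MonoidAlgebra K (Multiplicative M) →ₐ[K] MonoidAlgebra K (Multiplicative M) ⊗[K] MonoidAlgebra K (Multiplicative M)) *
        CoactBr.pt (Algebra.TensorProduct.includeRight :
          MonoidAlgebra K (Multiplicative M) →ₐ[K] MonoidAlgebra K (Multiplicative M) ⊗[K] MonoidAlgebra K (Multiplicative M))) =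
        CoactBr.pt (Bialgebra.comulAlgHom K (MonoidAlgebra K (Multiplicative M))) := by
      rw [CoactBr.pt_mul_pt]
      congr 1
      have : (Algebra.TensorProduct.lift Algebra.TensorProduct.includeLeft Algebra.TensorProduct.includeRight
          fun _ _ => .all _ _ : MonoidAlgebra K (Multiplicative M) ⊗[K] MonoidAlgebra K (Multiplicative M) →ₐ[K] _) =
          AlgHom.id K _ := Algebra.TensorProduct.ext' fun a b => by simp
      rw [this]; rfl
    have h := congrArg (fun s => ptMat (affPt k (s ≫ t))) hm
    simp only [IsMonHom.mul_hom, MonObj.mul_comp, affPt_mul, ptMat_mul, affPt_comp, ptMat_comp] at h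
    exact h.symm
  · have h1 : (1 : CoactBr.sp K K ⟶ Red.diag K M) ≫ t = 1 := MonObj.one_comp t
    rw [CoactBr.one_eq_pt] at h1
    have h := congrArg (fun s => ptMat (affPt k s)) h1
    simp only [affPt_comp, ptMat_comp] at h
    rw [show affPt k (1 : CoactBr.sp K K ⟶ Red.bc (str k K) (CoactBr.sp k (CoordGrp.GLn m k))) = 1 by
      have := affPt_mul (R := k) (1 : CoactBr.sp K K ⟶ Red.bc (str k K) (CoactBr.sp k (CoordGrp.GLn m k))) 1
      rw [_root_.one_mul] at this
      exact left_eq_mul.mp this, ptMat_one] at h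
    exact h

/-- A homomorphism `D_k(M) ⟶ GL_{m,k}` gives a representation matrix. -/
lemma isRep_ptMat_self (t : Red.diag k M ⟶ CoactBr.sp k (CoordGrp.GLn m k)) [IsMonHom t] :
    IsRep (ptMat t) := by
  constructor
  · have hm : (CoactBr.pt (Algebra.TensorProduct.includeLeft :
          MonoidAlgebra k (Multiplicative M) →ₐ[k] MonoidAlgebra k (Multiplicative M) ⊗[k] MonoidAlgebra k (Multiplicative M)) *
        CoactBr.pt (Algebra.TensorProduct.includeRight :
          MonoidAlgebra k (Multiplicative M) →ₐ[k] MonoidAlgebra k (Multiplicative M) ⊗[k] MonoidAlgebra k (Multiplicative M))) =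
        CoactBr.pt (Bialgebra.comulAlgHom k (MonoidAlgebra k (Multiplicative M))) := by
      rw [CoactBr.pt_mul_pt]
      congr 1
      have : (Algebra.TensorProduct.lift Algebra.TensorProduct.includeLeft Algebra.TensorProduct.includeRight
          fun _ _ => .all _ _ : MonoidAlgebra k (Multiplicative M) ⊗[k] MonoidAlgebra k (Multiplicative M) →ₐ[k] _) =
          AlgHom.id k _ := Algebra.TensorProduct.ext' fun a b => by simp
      rw [this]; rfl
    have h := congrArg (fun s => ptMat (s ≫ t)) hm
    simp only [MonObj.mul_comp, ptMat_mul, ptMat_comp] at h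
    exact h.symm
  · have h1 : (1 : CoactBr.sp k k ⟶ Red.diag k M) ≫ t = 1 := MonObj.one_comp t
    rw [CoactBr.one_eq_pt] at h1
    have h := congrArg ptMat h1
    rw [ptMat_comp, ptMat_one] at h
    exact h

/-- The embedding `D(M) ⟶ GL_m` by the diagonal characters `c`. -/
def dgHom (c : Fin m → M) : Red.diag k M ⟶ CoactBr.sp k (CoordGrp.GLn m k) :=
  (exists_ptMat_eq (R := k) (dg k c) (isUnit_dg k c)).choose

lemma ptMat_dgHom (c : Fin m → M) : ptMat (dgHom (k := k) c) = dg k c :=
  (exists_ptMat_eq (R := k) (dg k c) (isUnit_dg k c)).choose_spec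

instance isMonHom_dgHom (c : Fin m → M) : IsMonHom (dgHom (k := k) c) := by
  refine isMonHom_of_pt _ fun g h => ?_
  obtain ⟨φ, rfl⟩ := pt_surjective g
  obtain ⟨ψ, rfl⟩ := pt_surjective h
  apply ptMat_injective
  rw [ptMat_mul, CoactBr.pt_mul_pt, ptMat_comp, ptMat_comp, ptMat_comp, ptMat_dgHom]
  simp only [dg, AlgHom.mapMatrix_apply, Matrix.diagonal_map (map_zero _), Matrix.diagonal_mul_diagonal,
    mon]
  congr 1
  funext i
  simp

lemma diagonal_conj_card {K : Type u} [Field K] {N : Type} [DecidableEq N] (U : (Matrix (Fin m) (Fin m) K)ˣ)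
    (a b : Fin m → N) (h : ∀ i l, (U : Matrix (Fin m) (Fin m) K) i l ≠ 0 → b i = a l) (x : N) :
    Fintype.card {i // b i = x} = Fintype.card {i // a i = x} := by
  classical
  set E := fun c : Fin m → N => Matrix.diagonal fun i => if c i = x then (1 : K) else 0
  have hE : ∀ c, (E c).rank = Fintype.card {i // c i = x} := fun c => by
    rw [Matrix.rank_diagonal]
    exact Fintype.card_congr (Equiv.subtypeEquivRight fun i => by simp)
  have hc : (U : Matrix (Fin m) (Fin m) K) * E a = E b * (U : Matrix (Fin m) (Fin m) K) := by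
    ext i l
    simp only [E, Matrix.mul_diagonal, Matrix.diagonal_mul]
    by_cases hu : (U : Matrix (Fin m) (Fin m) K) i l = 0
    · simp [hu]
    · rw [h i l hu, mul_comm]
  have hd : IsUnit (U : Matrix (Fin m) (Fin m) K).det := U.isUnit.map Matrix.detMonoidHom
  rw [← hE, ← hE, ← Matrix.rank_mul_eq_left_of_isUnit_det _ _ hd, ← hc,
    Matrix.rank_mul_eq_right_of_isUnit_det _ _ hd]

/-- The subgroup generated by the weights of a monomorphism is everything. -/
lemma closure_weights_eq_top {F : Type u} [Field F] [Algebra k F]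
    (c : Fin m → M) (U : (Matrix (Fin m) (Fin m) F)ˣ)
    (t : Red.diag F M ⟶ Red.bc (str k F) (CoactBr.sp k (CoordGrp.GLn m k))) [Mono t]
    (h : cst F M (U : Matrix (Fin m) (Fin m) F) * ptMat (affPt k t) = dg F c * cst F M (U : Matrix (Fin m) (Fin m) F)) :
    AddSubgroup.closure (Set.range c) = ⊤ := by
  classical
  set H := AddSubgroup.closure (Set.range c)
  let q : M →+ M ⧸ H := QuotientAddGroup.mk' H
  let u : MonoidAlgebra F (Multiplicative M) →ₐ[F] MonoidAlgebra F (Multiplicative (M ⧸ H)) :=
    MonoidAlgebra.mapDomainAlgHom F F (AddMonoidHom.toMultiplicative q)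
  let v : MonoidAlgebra F (Multiplicative M) →ₐ[F] MonoidAlgebra F (Multiplicative (M ⧸ H)) :=
    (Algebra.ofId F _).comp (Bialgebra.counitAlgHom F _)
  have huv : u.mapMatrix (ptMat (affPt k t)) = v.mapMatrix (ptMat (affPt k t)) := by
    have hu : IsUnit (cst (M := M ⧸ H) F (U : Matrix (Fin m) (Fin m) F)) :=
      U.isUnit.map (RingHom.mapMatrix _)
    have hc : ∀ w : MonoidAlgebra F (Multiplicative M) →ₐ[F] MonoidAlgebra F (Multiplicative (M ⧸ H)),
        w.mapMatrix (cst F M (U : Matrix (Fin m) (Fin m) F)) = cst F (M ⧸ H) (U : Matrix (Fin m) (Fin m) F) := by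
      intro w; ext1 i j; exact w.commutes _
    have hd : u.mapMatrix (dg F c) = v.mapMatrix (dg F c) := by
      simp only [dg, AlgHom.mapMatrix_apply, Matrix.diagonal_map (map_zero _)]
      congr 1
      funext i
      have : q (c i) = 0 :=
        (QuotientAddGroup.eq_zero_iff (N := H) (c i)).mpr (AddSubgroup.subset_closure ⟨i, rfl⟩)
      simp [u, v, mon, this, ← MonoidAlgebra.one_def]
    have h1 := congrArg u.mapMatrix h
    have h2 := congrArg v.mapMatrix h
    rw [map_mul, map_mul, hc] at h1 h2
    rw [hd, ← h2] at h1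
    exact hu.mul_left_cancel h1
  have : u = v := by
    apply CoactBr.pt_injective
    rw [← cancel_mono t]
    apply affPt_injective (R := k)
    apply ptMat_injective
    rw [affPt_comp, affPt_comp, ptMat_comp, ptMat_comp]
    exact huv
  refine eq_top_iff.mpr fun x _ => ?_
  have hx := DFunLike.congr_fun this (mon F x)
  simp [u, v, mon, Algebra.ofId_apply] at hx
  exact (QuotientAddGroup.eq_zero_iff (N := H) x).mp
    (Multiplicative.ofAdd.injective (MonoidAlgebra.single_left_injective one_ne_zero hx))

end Groth.AlgGrp2
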