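/- Dimensions of locally closed sets and orbit boundaries (helper57). -/
import Mathlib
import Groth.Agent.Variety2.DimScheme
import Groth.Agent.AlgGrp1.Orbit

set_option autoImplicit false
set_option linter.style.haveILetI false

universe u

open CategoryTheory CategoryTheory.Limits MonoidalCategory CartesianMonoidalCategory AlgebraicGeometry TopologicalSpace

noncomputable section

namespace Groth.AlgGrp2

open Groth.Variety2.Dim

variable {k : Type u} [Field k]

/-- The dimension of a locally closed set is the supremum of the heights of its points. -/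
theorem dim_locallyClosed {X : Scheme.{u}} (f : X ⟶ Spec (CommRingCat.of k)) [LocallyOfFiniteType f]
    {S : Set X} (hS : IsLocallyClosed S) :
    topologicalKrullDim S = ⨆ x ∈ S, ((Order.height x : ℕ∞) : WithBot ℕ∞) := by
  obtain ⟨U, Z, hU, hZ, rfl⟩ := hS
  let J := Scheme.IdealSheafData.vanishingIdeal (⟨Z, hZ⟩ : Closeds X)
  have hsupp : Set.range J.subschemeι = Z := by
    rw [J.range_subschemeι, Scheme.IdealSheafData.coe_support_vanishingIdeal]
    rfl
  let V : J.subscheme.Opens := J.subschemeι ⁻¹ᵁ ⟨U, hU⟩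
  let i : V.toScheme ⟶ X := V.ι ≫ J.subschemeι
  have hr : Set.range i = U ∩ Z := by
    show Set.range (J.subschemeι ∘ V.ι) = _
    rw [Set.range_comp, Scheme.Opens.range_ι]
    ext x
    constructor
    · rintro ⟨y, hy, rfl⟩; exact ⟨hy, hsupp ▸ ⟨y, rfl⟩⟩
    · rintro ⟨hxU, hxZ⟩
      obtain ⟨y, rfl⟩ := hsupp.ge hxZ
      exact ⟨y, hxU, rfl⟩
  let e : V.toScheme ≃ₜ (U ∩ Z : Set X) :=
    i.isEmbedding.toHomeomorph.trans (Homeomorph.setCongr hr)
  rw [← e.isHomeomorph.topologicalKrullDim_eq, dim_eq_iSup_height]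
  have hh : ∀ y : V.toScheme, Order.height (i y) = Order.height y :=
    fun y => height_eq_of_isPreimmersion (i ≫ f) f i rfl y
  refine le_antisymm (iSup_le fun y => ?_) (iSup₂_le fun x hx => ?_)
  · rw [← hh y]
    exact le_iSup₂ (f := fun x (_ : x ∈ U ∩ Z) => ((Order.height x : ℕ∞) : WithBot ℕ∞)) (i y)
      (hr ▸ ⟨y, rfl⟩)
  · obtain ⟨y, rfl⟩ := hr.ge hx
    rw [hh y]
    exact le_iSup (fun y : V.toScheme => ((Order.height y : ℕ∞) : WithBot ℕ∞)) y

/-- Heights are bounded on a quasi-compact scheme of finite type over a field. -/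
theorem exists_height_le {X : Scheme.{u}} (f : X ⟶ Spec (CommRingCat.of k)) [LocallyOfFiniteType f]
    [CompactSpace X] : ∃ N : ℕ, ∀ x : X, Order.height x ≤ N := by
  classical
  haveI := LocallyOfFiniteType.isLocallyNoetherian f
  haveI : AlgebraicGeometry.IsNoetherian X := ⟨⟩
  have hfin := (NoetherianSpace.finite_irreducibleComponents (α := X))
  haveI := hfin.to_subtype
  haveI := Fintype.ofFinite (irreducibleComponents X)
  have hgen : ∀ Z : irreducibleComponents X, ∃ z : X, IsGenericPoint z (Z : Set X) := fun Z =>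
    QuasiSober.sober Z.2.1 (isClosed_of_mem_irreducibleComponents _ Z.2)
  choose z hz using hgen
  refine ⟨Finset.univ.sup fun Z => (Order.height (z Z)).toNat, fun x => ?_⟩
  let Z : irreducibleComponents X :=
    ⟨irreducibleComponent x, irreducibleComponent_mem_irreducibleComponents x⟩
  have hxz : x ≤ z Z := (hz Z).specializes mem_irreducibleComponent
  refine (Order.height_mono hxz).trans ?_
  rw [← ENat.natCast_toNat (height_ne_top f (z Z)), Nat.cast_le]
  exact Finset.le_sup (f := fun Z => (Order.height (z Z)).toNat) (Finset.mem_univ Z)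

/-- The boundary of a nonempty locally closed set has smaller dimension. -/
theorem dim_boundary_lt {X : Scheme.{u}} (f : X ⟶ Spec (CommRingCat.of k)) [LocallyOfFiniteType f]
    [CompactSpace X] {S : Set X} (hS : IsLocallyClosed S) (hne : S.Nonempty) :
    topologicalKrullDim ↥(closure S \ S) < topologicalKrullDim S := by
  haveI := LocallyOfFiniteType.isLocallyNoetherian f
  haveI : AlgebraicGeometry.IsNoetherian X := ⟨⟩
  have hB : IsClosed (closure S \ S) := by
    obtain ⟨U, Z, hU, hZ, rfl⟩ := hS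
    have : closure (U ∩ Z) \ (U ∩ Z) = closure (U ∩ Z) ∩ Uᶜ := by
      ext x
      exact ⟨fun h => ⟨h.1, fun hx => h.2 ⟨hx, (closure_minimal Set.inter_subset_right hZ) h.1⟩⟩,
        fun h => ⟨h.1, fun hx => h.2 hx.1⟩⟩
    rw [this]
    exact isClosed_closure.inter hU.isClosed_compl
  obtain ⟨N, hN⟩ := exists_height_le f
  have hkey : ∀ b ∈ closure S \ S, ∃ s ∈ S, Order.height b + 1 ≤ Order.height s := by
    intro b hb
    obtain ⟨U, Z, hU, hZ, rfl⟩ := hS
    obtain ⟨ξ, hξ, hξb, -⟩ := Groth.AlgGrp1.exists_maximal_of_mem_closure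
      (T := U ∩ Z) (((NoetherianSpace.isCompact U).isConstructible hU).inter (by
        have := ((NoetherianSpace.isCompact Zᶜ).isConstructible hZ.isOpen_compl).compl
        rwa [compl_compl] at this)) hb.1
    refine ⟨ξ, hξ, ?_⟩
    have hlt : b < ξ := by
      refine lt_of_le_not_ge hξb fun h => hb.2 ?_
      have : b = ξ := ((hξb : ξ ⤳ b).antisymm (h : b ⤳ ξ)).eq.symm
      rw [this]; exact hξ
    exact (Order.height_add_one_le hlt)
  have hS' := dim_locallyClosed f hS
  rw [dim_closed hB, hS']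
  obtain ⟨s₀, hs₀⟩ := hne
  obtain ⟨n, hn⟩ : ∃ n : ℕ, (⨆ x ∈ S, ((Order.height x : ℕ∞) : WithBot ℕ∞)) = ((n : ℕ∞) : WithBot ℕ∞) := by
    have hle : (⨆ x ∈ S, ((Order.height x : ℕ∞) : WithBot ℕ∞)) ≤ ((N : ℕ∞) : WithBot ℕ∞) :=
      iSup₂_le fun x _ => WithBot.coe_le_coe.2 (hN x)
    have hge : ((Order.height s₀ : ℕ∞) : WithBot ℕ∞) ≤ ⨆ x ∈ S, ((Order.height x : ℕ∞) : WithBot ℕ∞) :=
      le_iSup₂ (f := fun x (_ : x ∈ S) => ((Order.height x : ℕ∞) : WithBot ℕ∞)) s₀ hs₀
    revert hle hge
    generalize (⨆ x ∈ S, ((Order.height x : ℕ∞) : WithBot ℕ∞)) = v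
    intro hle hge
    induction v using WithBot.recBotCoe with
    | bot => exact absurd (le_bot_iff.1 hge) WithBot.coe_ne_bot
    | coe v =>
      have : v ≠ ⊤ := ne_top_of_le_ne_top (ENat.natCast_ne_top N) (WithBot.coe_le_coe.1 hle)
      exact ⟨v.toNat, by rw [ENat.natCast_toNat this]⟩
  rw [hn]
  rcases Set.eq_empty_or_nonempty (closure S \ S) with h | ⟨b₀, hb₀⟩
  · simp [h]
  have hb : ∀ b ∈ closure S \ S, Order.height b + 1 ≤ (n : ℕ∞) := fun b hb => by
    obtain ⟨s, hs, hle⟩ := hkey b hb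
    refine hle.trans (WithBot.coe_le_coe.1 ?_)
    rw [← hn]
    exact le_iSup₂ (f := fun x (_ : x ∈ S) => ((Order.height x : ℕ∞) : WithBot ℕ∞)) s hs
  obtain ⟨m, rfl⟩ : ∃ m, n = m + 1 := by
    refine Nat.exists_eq_succ_of_ne_zero fun h0 => ?_
    have := hb b₀ hb₀
    rw [h0, Nat.cast_zero, nonpos_iff_eq_zero, add_eq_zero] at this
    exact one_ne_zero this.2
  refine lt_of_le_of_lt (iSup₂_le (a := ((m : ℕ∞) : WithBot ℕ∞)) fun b hb' => ?_) ?_
  · refine WithBot.coe_le_coe.2 ?_
    have := hb b hb'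
    rw [Nat.cast_add, Nat.cast_one] at this
    exact (ENat.add_le_add_iff_right ENat.one_ne_top).1 this
  · exact WithBot.coe_lt_coe.2 (Nat.cast_lt.2 (Nat.lt_succ_self m))

open Groth.AlgGrp1 in
/-- An orbit of a rational point lying in an invariant set stays in it. -/
theorem range_orbitMap_subset {G X : Over (Spec (CommRingCat.of k))} [GrpObj G] {a : AlgGrp.Action G X}
    {S : Set X.left} (hS : IsInvariant a S) (x : 𝟙_ (Over (Spec (CommRingCat.of k))) ⟶ X)
    (hx : x.left (IsLocalRing.closedPoint k) ∈ S) : Set.range (a.orbitMap x).left.base ⊆ S := by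
  rintro _ ⟨g, rfl⟩
  let q := (lift (𝟙 G) (toUnit G ≫ x)).left.base g
  have hq : q ∈ (snd G X).left.base ⁻¹' S := by
    have h1 : (snd G X).left.base q = x.left.base ((toUnit G).left.base g) :=
      congr(($(lift_snd (𝟙 G) (toUnit G ≫ x))).left.base g)
    rw [Set.mem_preimage, h1,
      show (toUnit G).left.base g = IsLocalRing.closedPoint k from
        (Subsingleton.elim (α := ↥(Spec (CommRingCat.of k))) _ _)]
    exact hx
  rw [← hS] at hq
  exact hq

end Groth.AlgGrp2
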