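import Groth.Prelude.Def_W4bk4git07Quot
import Groth.Agent.GrpschAbsch.Basic
import Groth.Agent.AlgGrp1.Antiaffine
import Groth.Agent.EtaleBase.FpqcDescent
import Mathlib.AlgebraicGeometry.Morphisms.FlatDescent

/-! Descent for equivariant maps of torsors (helper57). -/

set_option autoImplicit false

universe u

open CategoryTheory CategoryTheory.Limits MonoidalCategory CartesianMonoidalCategory AlgebraicGeometry

namespace Groth.AlgGrp2

/-- A commutative square becomes cartesian if it is so after a flat surjective quasi-compact base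
change. -/
theorem isPullback_of_comp {P X Y Z W P' : Scheme.{u}} {fst : P ⟶ X} {snd : P ⟶ Y} {f : X ⟶ Z}
    {g : Y ⟶ Z} {c : W ⟶ X} {top : P' ⟶ P} {left : P' ⟶ W} (w : fst ≫ f = snd ≫ g)
    (hl : IsPullback top left fst c) (hout : IsPullback left (top ≫ snd) (c ≫ f) g)
    [Flat c] [Surjective c] [QuasiCompact c] : IsPullback fst snd f g := by
  let t : P ⟶ pullback f g := pullback.lift fst snd w
  have h1 : IsPullback (pullback.snd c (pullback.fst f g)) (pullback.fst c (pullback.fst f g))
      (pullback.fst f g) c := (IsPullback.of_hasPullback c (pullback.fst f g)).flip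
  let u : P' ⟶ pullback c (pullback.fst f g) := pullback.lift left (top ≫ t) (by
    rw [Category.assoc, pullback.lift_fst, hl.w])
  have hu1 : u ≫ pullback.snd c (pullback.fst f g) = top ≫ t := pullback.lift_snd _ _ _
  have hu2 : u ≫ pullback.fst c (pullback.fst f g) = left := pullback.lift_fst _ _ _
  have h3 : IsPullback (pullback.fst c (pullback.fst f g))
      (pullback.snd c (pullback.fst f g) ≫ pullback.snd f g) (c ≫ f) g :=
    (IsPullback.of_hasPullback c (pullback.fst f g)).paste_vert (IsPullback.of_hasPullback f g)
  have hiso : IsIso u := by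
    have e : u = (hout.isoIsPullback _ _ h3).hom := h3.hom_ext
      (hu2.trans (hout.isoIsPullback_hom_fst _ _ h3).symm)
      ((by rw [← Category.assoc, hu1, Category.assoc, pullback.lift_snd] :
        u ≫ pullback.snd c (pullback.fst f g) ≫ pullback.snd f g = top ≫ snd).trans
        (hout.isoIsPullback_hom_snd _ _ h3).symm)
    rw [e]; infer_instance
  have hsq : IsPullback u top (pullback.snd c (pullback.fst f g)) t := by
    refine IsPullback.of_right ?_ hu1 h1.flip
    rw [hu2, show t ≫ pullback.fst f g = fst from pullback.lift_fst _ _ _]; exact hl.flip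
  have hQ : (@Surjective ⊓ @Flat ⊓ @QuasiCompact : MorphismProperty Scheme.{u})
      (pullback.snd c (pullback.fst f g)) :=
    ⟨⟨MorphismProperty.of_isPullback h1.flip ‹Surjective c›,
      MorphismProperty.of_isPullback h1.flip ‹Flat c›⟩,
      MorphismProperty.of_isPullback h1.flip ‹QuasiCompact c›⟩
  have : IsIso t := MorphismProperty.of_isPullback_of_descendsAlong
    (P := MorphismProperty.isomorphisms Scheme.{u}) hsq hQ hiso
  exact IsPullback.of_iso_pullback ⟨w⟩ (asIso t) (pullback.lift_fst _ _ _) (pullback.lift_snd _ _ _)

variable {S : Scheme.{u}} {H V W Q B : Over S} [GrpObj H]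

/-- The cartesian square of a free quotient. -/
theorem isPullback_of_psiY (a : AlgGrp.Action H V) (q : V ⟶ Q) (hinv : GIT.IsInvariant a q)
    (h : IsIso (GIT.PsiY a q hinv)) :
    IsPullback a.act.left (snd H V).left q.left q.left :=
  IsPullback.of_iso_pullback ⟨hinv.left⟩ (asIso (GIT.PsiY a q hinv)) (pullback.lift_fst _ _ _)
    (pullback.lift_snd _ _ _)

/-- Equivariant maps between torsors are base changes of the maps of the bases. -/
theorem isPullback_of_equivariant (a : AlgGrp.Action H V) (q : V ⟶ Q)
    (hV : IsPullback a.act.left (snd H V).left q.left q.left)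
    [Flat q.left] [Surjective q.left] [QuasiCompact q.left]
    (b : AlgGrp.Action H W) (π : W ⟶ B)
    (hW : IsPullback b.act.left (snd H W).left π.left π.left)
    (h : V ⟶ W) (p : Q ⟶ B) (hh : a.act ≫ h = (H ◁ h) ≫ b.act) (hc : q ≫ p = h ≫ π) :
    IsPullback q.left h.left p.left π.left := by
  refine isPullback_of_comp (by simpa using congrArg Over.Hom.left hc) hV ?_
  have h1 := ((Groth.GrpschAbsch.isPullback_whiskerLeft H h).paste_horiz hW).flip
  rw [← Over.comp_left, ← hh, Over.comp_left] at h1
  have e : h.left ≫ π.left = q.left ≫ p.left := by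
    simpa using (congrArg Over.Hom.left hc).symm
  rwa [e] at h1

/-- Quasi-compactness of the morphisms into a separated scheme of finite type. -/
theorem quasiCompact_left {k : Type u} [Field k] {A C : Over (Spec (CommRingCat.of k))}
    [QuasiCompact A.hom] [IsSeparated C.hom] (f : A ⟶ C) : QuasiCompact f.left := by
  have : QuasiCompact (f.left ≫ C.hom) := by rw [Over.w f]; infer_instance
  exact QuasiCompact.of_comp f.left C.hom

end Groth.AlgGrp2
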