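/- Units of finitely generated domains: boundedness and units of tensor products (helper57).
The proof of `exists_hom_bounded` extends that of `Groth.Curves1.Units.exists_hom` (helper52). -/
import Mathlib
import Groth.Agent.Curves1.Units
import Groth.Agent.VarietyBC.TensorAlgClosed
import Groth.Agent.AlgGrp2.EqLocus

set_option autoImplicit false

universe u

open scoped TensorProduct
open MvPolynomial

noncomputable section

namespace Groth.AlgGrp2

open Groth.Curves1.Units in
/-- Units of a finitely generated domain over a field, up to units integral over the field, embed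
in a finitely generated free abelian group. -/
theorem exists_hom_bounded (k A : Type u) [Field k] [CommRing A] [IsDomain A] [Algebra k A]
    [Algebra.FiniteType k A] :
    ∃ (ι : Type u) (_ : Finite ι) (Ψ : Aˣ →* Multiplicative (ι → ℤ)),
      (∀ u, Ψ u = 1 → IsIntegral k (u : A)) ∧
      ∀ s : Finset A, (Ψ '' {u : Aˣ | (u : A) ∈ Submodule.span k (s : Set A) ∧
        ((u⁻¹ : Aˣ) : A) ∈ Submodule.span k (s : Set A)}).Finite := by
  classical
  obtain ⟨r, g, hg, hfin⟩ := exists_finite_inj_algHom_of_fg k A
  algebraize [g.toRingHom]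
  have : Module.Finite (MvPolynomial (Fin r) k) A := hfin
  have : IsScalarTower k (MvPolynomial (Fin r) k) A :=
    IsScalarTower.of_algebraMap_eq fun x => (g.commutes x).symm
  have : FaithfulSMul (MvPolynomial (Fin r) k) A :=
    (faithfulSMul_iff_algebraMap_injective _ _).mpr hg
  set P := MvPolynomial (Fin r) k
  set F := FractionRing P
  let L := AlgebraicClosure F
  have : FaithfulSMul P L := (faithfulSMul_iff_algebraMap_injective _ _).mpr <| by
    rw [IsScalarTower.algebraMap_eq P F L]
    exact (algebraMap F L).injective.comp (IsFractionRing.injective P F)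
  have hPL : Function.Injective (algebraMap P L) := FaithfulSMul.algebraMap_injective P L
  have : Finite (A →ₐ[P] L) := finite_algHom P A L
  let τ₀ : A →ₐ[P] L := IsAlgClosed.lift
  have hτ₀ : Function.Injective τ₀ := by
    rw [injective_iff_map_eq_zero]
    intro a ha
    have hbot : RingHom.ker (τ₀ : A →+* L) = ⊥ := by
      refine Ideal.eq_bot_of_comap_eq_bot (R := P) ?_
      rw [eq_bot_iff]
      intro p hp
      rw [Ideal.mem_comap, RingHom.mem_ker, RingHom.coe_coe, AlgHom.commutes] at hp
      exact hPL (hp.trans (map_zero _).symm)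
    have : a ∈ RingHom.ker (τ₀ : A →+* L) := ha
    rwa [hbot] at this
  -- valuations at infinity
  have hex : ∀ i, ∃ W : ValuationSubring L, ∀ a b : P, b ≠ 0 →
      (algebraMap P L a / algebraMap P L b ∈ W ↔ degVal i a ≤ degVal i b) := fun i =>
    exists_valuationSubring (degVal i) (fun x hx => by simp [degVal_apply i hx]) L
  choose W hW using hex
  let w : ∀ i, Valuation L (W i).ValueGroup := fun i => (W i).valuation
  have hle : ∀ i (a b : P), b ≠ 0 →
      (w i (algebraMap P L a) ≤ w i (algebraMap P L b) ↔ degVal i a ≤ degVal i b) := by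
    intro i a b hb
    rw [← hW i a b hb, ← ValuationSubring.valuation_le_one_iff, map_div₀, div_le_one₀]
    exact zero_lt_iff.mpr ((Valuation.ne_zero_iff _).mpr ((map_ne_zero_iff _ hPL).mpr hb))
  have hy : ∀ i, 1 < w i (algebraMap P L (X i)) := fun i => by
    rw [← not_le, ← map_one (w i), ← map_one (algebraMap P L), hle i _ _ one_ne_zero, map_one,
      degVal_apply i (X_ne_zero i), degreeOf_X_self, not_le]
    simp [← WithZero.exp_zero]
  have hdeg : ∀ i (a : P), a ≠ 0 →
      w i (algebraMap P L a) = w i (algebraMap P L (X i)) ^ (a.degreeOf i : ℤ) := by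
    intro i a ha
    have hd : degVal i a = degVal i (X i ^ a.degreeOf i : P) := by
      rw [degVal_apply i ha, degVal_apply i (pow_ne_zero _ (X_ne_zero i)), degreeOf_X_self_pow]
    rw [zpow_natCast, ← map_pow, ← map_pow]
    exact le_antisymm ((hle i _ _ (pow_ne_zero _ (X_ne_zero i))).mpr hd.le)
      ((hle i _ _ ha).mpr hd.ge)
  set n := (⊤ : Submodule P A).spanFinrank
  have hval' : ∀ (j : Fin r × (A →ₐ[P] L)) (a : A), j.2 a ≠ 0 → ∃ m : ℤ,
      w j.1 (j.2 a) ^ (n.factorial : ℤ) = w j.1 (algebraMap P L (X j.1)) ^ m := by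
    rintro ⟨i, τ⟩ u hu0
    obtain ⟨q, hq, hqn, hqu⟩ := LinearMap.exists_monic_and_natDegree_eq_and_aeval_eq_zero
      (R := P) (Algebra.lmul P A u)
    have hqu' : Polynomial.aeval u q = 0 := by
      have h1 := Polynomial.aeval_algHom_apply (Algebra.lmul P A) u q
      rw [hqu] at h1
      simpa using (LinearMap.congr_fun h1 1).symm
    set x := τ u
    have hx : x ≠ 0 := hu0
    have hsum : ∑ j ∈ Finset.range (n + 1), algebraMap P L (q.coeff j) * x ^ j = 0 := by
      have h2 : Polynomial.aeval x q = 0 := by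
        rw [Polynomial.aeval_algHom_apply, hqu', map_zero]
      rw [Polynomial.aeval_eq_sum_range, hqn] at h2
      simpa [Algebra.smul_def] using h2
    obtain ⟨j, hj, hmax⟩ := Finset.exists_max_image (Finset.range (n + 1))
      (fun j => w i (algebraMap P L (q.coeff j) * x ^ j)) ⟨0, by simp⟩
    have hpos : 0 < w i (algebraMap P L (q.coeff j) * x ^ j) := by
      refine lt_of_lt_of_le ?_ (hmax n (by simp))
      rw [zero_lt_iff, Valuation.ne_zero_iff, show q.coeff n = 1 by simpa [hqn] using hq.coeff_natDegree,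
        map_one, one_mul]
      exact pow_ne_zero _ hx
    obtain ⟨l, hl, hlj, heq⟩ : ∃ l ∈ Finset.range (n + 1), l ≠ j ∧
        w i (algebraMap P L (q.coeff l) * x ^ l) = w i (algebraMap P L (q.coeff j) * x ^ j) := by
      by_contra hall
      push Not at hall
      have h3 := Valuation.map_sum_eq_of_lt (w i)
        (f := fun j => algebraMap P L (q.coeff j) * x ^ j) hj fun l hl => by
          obtain ⟨hl1, hl2⟩ := Finset.mem_sdiff.mp hl
          rw [Finset.mem_singleton] at hl2
          exact lt_of_le_of_ne (hmax l hl1) (hall l hl1 hl2)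
      rw [hsum, map_zero] at h3
      exact hpos.ne h3
    have hqj : q.coeff j ≠ 0 := fun h0 => by simp [h0] at hpos
    have hql : q.coeff l ≠ 0 := fun h0 => by
      rw [← heq] at hpos
      simp [h0] at hpos
    simp only [map_mul, map_pow, hdeg i _ hql, hdeg i _ hqj] at heq
    set Y := w i (algebraMap P L (X i))
    set Z := w i x
    have hY : Y ≠ 0 := (zero_lt_one.trans (hy i)).ne'
    have hZ : Z ≠ 0 := (Valuation.ne_zero_iff _).mpr hx
    have hrel : Z ^ ((l : ℤ) - j) =
        Y ^ ((q.coeff j).degreeOf i - (q.coeff l).degreeOf i : ℤ) := by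
      rw [← zpow_natCast Z l, ← zpow_natCast Z j, mul_comm] at heq
      rw [zpow_sub₀ hZ, zpow_sub₀ hY, div_eq_div_iff (zpow_ne_zero _ hZ) (zpow_ne_zero _ hY), heq]
    obtain ⟨c, hc⟩ : ((l : ℤ) - j) ∣ (n.factorial : ℤ) := by
      rw [Int.dvd_natCast]
      rw [Finset.mem_range] at hl hj
      exact Nat.dvd_factorial (by omega) (by omega)
    refine ⟨((q.coeff j).degreeOf i - (q.coeff l).degreeOf i) * c, ?_⟩
    rw [hc, zpow_mul, hrel, ← zpow_mul]
  have hval : ∀ (j : Fin r × (A →ₐ[P] L)) (u : Aˣ), ∃ m : ℤ,
      w j.1 (j.2 u) ^ (n.factorial : ℤ) = w j.1 (algebraMap P L (X j.1)) ^ m :=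
    fun j u => hval' j u (u.isUnit.map j.2).ne_zero
  choose m hm using hval
  have hinj : ∀ i, Function.Injective fun e : ℤ => w i (algebraMap P L (X i)) ^ e := fun i =>
    (zpow_right_strictMono₀ (hy i)).injective
  let Ψ : Aˣ →* Multiplicative (Fin r × (A →ₐ[P] L) → ℤ) :=
    MonoidHom.mk' (fun u => Multiplicative.ofAdd fun j => m j u) fun a b => by
      rw [← ofAdd_add]
      refine congrArg _ (_root_.funext fun j => hinj j.1 ?_)
      simp only [Pi.add_apply]
      rw [zpow_add₀ (zero_lt_one.trans (hy j.1)).ne', ← hm, ← hm, ← hm, Units.val_mul, map_mul,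
        map_mul, mul_zpow]
  refine ⟨_, inferInstance, Ψ, fun u hu => ?_, fun s => ?_⟩
  swap
  · -- on a finite-dimensional space the values are bounded
    have hbd : ∀ j : Fin r × (A →ₐ[P] L), ∃ M : ℤ, ∀ u : Aˣ,
        (u : A) ∈ Submodule.span k (s : Set A) → m j u ≤ M := by
      intro j
      have hY : (0 : (W j.1).ValueGroup) < w j.1 (algebraMap P L (X j.1)) :=
        zero_lt_one.trans (hy j.1)
      by_cases hs : (s.filter fun b => j.2 b ≠ 0).Nonempty
      · obtain ⟨b, hb, hmax⟩ := Finset.exists_max_image _ (fun b => w j.1 (j.2 b)) hs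
        obtain ⟨M, hM⟩ := hval' j b (Finset.mem_filter.mp hb).2
        refine ⟨M, fun u hu => ?_⟩
        have hle' : ∀ a ∈ Submodule.span k (s : Set A), w j.1 (j.2 a) ≤ w j.1 (j.2 b) := by
          intro a ha
          induction ha using Submodule.span_induction with
          | mem a ha =>
            by_cases ha0 : j.2 a = 0
            · simp [ha0]
            · exact hmax a (Finset.mem_filter.mpr ⟨ha, ha0⟩)
          | zero => simp
          | add a a' _ _ h h' =>
            rw [map_add]
            exact ((w j.1).map_add _ _).trans (max_le h h')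
          | smul c a _ h =>
            rw [Algebra.smul_def, map_mul, map_mul]
            refine le_trans ?_ h
            by_cases hc : c = 0
            · simp [hc]
            · rw [IsScalarTower.algebraMap_apply k P A, AlgHom.commutes,
                hdeg j.1 _ ((map_ne_zero_iff _ (algebraMap k P).injective).mpr hc),
                MvPolynomial.algebraMap_eq, degreeOf_C]
              simp
        have h1 : w j.1 (j.2 u) ^ (n.factorial : ℤ) ≤ w j.1 (j.2 b) ^ (n.factorial : ℤ) := by
          rw [zpow_natCast, zpow_natCast]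
          exact pow_le_pow_left₀ zero_le (hle' _ hu) _
        rw [hm, hM] at h1
        exact (zpow_le_zpow_iff_right₀ (hy j.1)).mp h1
      · refine ⟨0, fun u hu => absurd ?_ (u.isUnit.map j.2).ne_zero⟩
        generalize (u : A) = a at hu ⊢
        induction hu using Submodule.span_induction with
        | mem a ha => by_contra ha0; exact hs ⟨a, Finset.mem_filter.mpr ⟨ha, ha0⟩⟩
        | zero => simp
        | add a a' _ _ h h' => rw [map_add, h, h', add_zero]
        | smul c a _ h => rw [Algebra.smul_def, map_mul, h, mul_zero]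
    choose M hM using hbd
    refine ((Set.Finite.pi' fun j => Set.finite_Icc (-M j) (M j)).image Multiplicative.ofAdd).subset ?_
    rintro _ ⟨u, ⟨hu, hu'⟩, rfl⟩
    refine ⟨Multiplicative.toAdd (Ψ u), fun j => ⟨?_, hM j u hu⟩, ofAdd_toAdd _⟩
    have h1 := congrFun (congrArg Multiplicative.toAdd (map_mul Ψ u u⁻¹)) j
    rw [mul_inv_cancel, map_one, toAdd_one, toAdd_mul] at h1
    have h2 : (0 : ℤ) = m j u + m j u⁻¹ := h1
    have h3 := hM j u⁻¹ hu'
    show -M j ≤ m j u
    linarith
  have hW1 : ∀ i (τ : A →ₐ[P] L), τ (u : A) ∈ W i := by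
    intro i τ
    have h0 : m (i, τ) u = 0 := congrFun (congrArg Multiplicative.toAdd hu) (i, τ)
    have h1 := hm (i, τ) u
    rw [h0, zpow_zero, zpow_natCast] at h1
    rw [← ValuationSubring.valuation_le_one_iff]
    exact ((pow_eq_one_iff.mp h1).resolve_right (Nat.factorial_pos n).ne').le
  set x := τ₀ (u : A)
  have hxint : IsIntegral P x := (Algebra.IsIntegral.isIntegral (u : A)).map τ₀
  have hmp : minpoly F x = (minpoly P x).map (algebraMap P F) :=
    minpoly.isIntegrallyClosed_eq_field_fractions' F hxint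
  have hcoeff : ∀ i e, algebraMap P L ((minpoly P x).coeff e) ∈ W i := by
    intro i e
    set p := (minpoly F x).map (algebraMap F L)
    have hp : p.Monic := (minpoly.monic hxint.tower_top).map _
    have hroots : ∀ ρ ∈ p.roots, ρ ∈ W i := by
      intro ρ hρ
      have hρ' : ρ ∈ (minpoly F x).rootSet L := by
        rw [Polynomial.rootSet_def, Finset.mem_coe, Multiset.mem_toFinset]
        exact hρ
      rw [← Algebra.IsAlgebraic.range_eval_eq_rootSet_minpoly (K := L) (A := L) x] at hρ'
      obtain ⟨ψ, rfl⟩ := hρ'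
      exact hW1 i ((ψ.restrictScalars P).comp τ₀)
    have hmem : p ∈ (Polynomial.mapRingHom (W i).subtype).range := by
      rw [(IsAlgClosed.splits p).eq_prod_roots_of_monic hp]
      refine multiset_prod_mem _ fun f hf => ?_
      obtain ⟨ρ, hρ, rfl⟩ := Multiset.mem_map.mp hf
      exact ⟨Polynomial.X - Polynomial.C ⟨ρ, hroots ρ hρ⟩, by simp⟩
    obtain ⟨Q, hQ⟩ := hmem
    have hce := congrArg (fun f => Polynomial.coeff f e) hQ
    simp only [Polynomial.coe_mapRingHom, Polynomial.coeff_map, p, hmp] at hce
    rw [← IsScalarTower.algebraMap_apply] at hce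
    rw [← hce]
    exact (Q.coeff e).2
  have hconst : ∀ e, (minpoly P x).coeff e = C (constantCoeff ((minpoly P x).coeff e)) := by
    intro e
    refine vars_eq_empty_iff_eq_C.mp (Finset.eq_empty_iff_forall_notMem.mpr fun i hi => ?_)
    have h1 := hW i ((minpoly P x).coeff e) 1 one_ne_zero
    rw [map_one (algebraMap P L), div_one, map_one] at h1
    have h2 := h1.mp (hcoeff i e)
    have hne : (minpoly P x).coeff e ≠ 0 := fun h0 => by simp [h0] at hi
    rw [degVal_apply i hne, ← WithZero.exp_zero, WithZero.exp_le_exp] at h2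
    rw [vars_def, Multiset.mem_toFinset, ← Multiset.count_pos, ← degreeOf_def] at hi
    omega
  refine ⟨(minpoly P x).map constantCoeff, (minpoly.monic hxint).map _, ?_⟩
  have heq : ((minpoly P x).map constantCoeff).map (algebraMap k P) = minpoly P x := by
    ext1 e
    rw [Polynomial.coeff_map, Polynomial.coeff_map]
    exact (hconst e).symm
  rw [← Polynomial.aeval_def, ← Polynomial.aeval_map_algebraMap P, heq]
  apply hτ₀
  rw [← Polynomial.aeval_algHom_apply, map_zero]
  exact minpoly.aeval P x

/-- Units of a tensor product of finitely generated domains over an algebraically closed field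
are products of units. -/
theorem unit_tensor_eq_tmul (k A B : Type u) [Field k] [IsAlgClosed k] [CommRing A] [IsDomain A]
    [Algebra k A] [Algebra.FiniteType k A] [CommRing B] [IsDomain B] [Algebra k B]
    [Algebra.FiniteType k B] (f : (A ⊗[k] B)ˣ) :
    ∃ (g : Aˣ) (h : Bˣ), (f : A ⊗[k] B) = (g : A) ⊗ₜ[k] (h : B) := by
  classical
  obtain ⟨ι, _, Ψ, hker, hfin⟩ := exists_hom_bounded k A
  have hconst : ∀ u : Aˣ, Ψ u = 1 → ∃ c : k, algebraMap k A c = u := fun u hu => by
    have hb : minpoly k (u : A) = Polynomial.X - Polynomial.C (-(minpoly k (u : A)).coeff 0) := by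
      have hm := minpoly.monic (hker u hu)
      have hd := IsAlgClosed.degree_eq_one_of_irreducible k (minpoly.irreducible (hker u hu))
      rw [map_neg, sub_neg_eq_add]
      exact hm.eq_X_add_C (Polynomial.natDegree_eq_of_degree_eq_some hd)
    refine ⟨-(minpoly k (u : A)).coeff 0, ?_⟩
    have := minpoly.aeval k (u : A)
    rw [hb, map_sub, Polynomial.aeval_X, Polynomial.aeval_C, sub_eq_zero] at this
    exact this.symm
  -- evaluation at a point of `B`
  let ev : (B →ₐ[k] k) → (A ⊗[k] B →ₐ[k] A) := fun y =>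
    (Algebra.TensorProduct.rid k k A).toAlgHom.comp (Algebra.TensorProduct.map (AlgHom.id k A) y)
  have hev : ∀ y z, ev y z = contract y.toLinearMap A z := fun y z => by
    induction z using TensorProduct.induction_on with
    | zero => simp
    | tmul a b => simp [ev, contract]
    | add a b ha hb => simp only [map_add, ha, hb]
  have hl : ∀ (z : A ⊗[k] B), ∃ s : Finset A, ∀ y, ev y z ∈ Submodule.span k (s : Set A) := by
    intro z
    obtain ⟨T, hT⟩ := TensorProduct.exists_finset z
    refine ⟨T.image Prod.fst, fun y => ?_⟩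
    rw [hT, map_sum]
    refine Submodule.sum_mem _ fun p hp => ?_
    have : ev y (p.1 ⊗ₜ p.2) = y p.2 • p.1 := by simp [ev]
    rw [this]
    exact Submodule.smul_mem _ _ (Submodule.subset_span (Finset.mem_image_of_mem _ hp))
  obtain ⟨s₁, hs₁⟩ := hl f
  obtain ⟨s₂, hs₂⟩ := hl (f⁻¹ : (A ⊗[k] B)ˣ)
  let fy : (B →ₐ[k] k) → Aˣ := fun y => Units.map (ev y).toRingHom.toMonoidHom f
  have hmem : ∀ y, Ψ (fy y) ∈ Ψ '' {u : Aˣ | (u : A) ∈ Submodule.span k ((s₁ ∪ s₂ : Finset A) : Set A) ∧
      ((u⁻¹ : Aˣ) : A) ∈ Submodule.span k ((s₁ ∪ s₂ : Finset A) : Set A)} := fun y =>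
    ⟨fy y, ⟨Submodule.span_mono (Finset.coe_subset.mpr Finset.subset_union_left) (hs₁ y),
      Submodule.span_mono (Finset.coe_subset.mpr Finset.subset_union_right) (hs₂ y)⟩, rfl⟩
  obtain ⟨V, hV⟩ := (hfin (s₁ ∪ s₂)).exists_finset_coe
  -- one representative for each value
  have hrep : ∀ v, ∃ g : Aˣ, (∃ u, Ψ u = v) → Ψ g = v := fun v => by
    by_cases hv : ∃ u, Ψ u = v
    · exact ⟨hv.choose, fun _ => hv.choose_spec⟩
    · exact ⟨1, fun h => absurd h hv⟩
  choose g hg using hrep
  let J : Multiplicative (ι → ℤ) → Ideal B := fun v =>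
    Ideal.span ((fun l : A →ₗ[k] k => contract l B (TensorProduct.comm k A B f)) ''
      {l | l (g v : A) = 0})
  have hJ : ∀ y : B →ₐ[k] k, ∀ p ∈ J (Ψ (fy y)), y p = 0 := by
    intro y p hp
    obtain ⟨c, hc⟩ := hconst (fy y * (g (Ψ (fy y)))⁻¹) (by
      rw [map_mul, map_inv, hg _ ⟨_, rfl⟩, mul_inv_cancel])
    have hfy : ev y f = c • (g (Ψ (fy y)) : A) := by
      rw [Algebra.smul_def, hc, Units.val_mul, Units.inv_mul_cancel_right]
      rfl
    induction hp using Submodule.span_induction with
    | mem p hp =>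
      obtain ⟨l, hl, rfl⟩ := hp
      have key : ∀ z : A ⊗[k] B, y (contract l B (TensorProduct.comm k A B z)) = l (ev y z) := by
        intro z
        induction z using TensorProduct.induction_on with
        | zero => simp
        | tmul a b => simp [ev, contract, mul_comm]
        | add a b ha hb => simp only [map_add, ha, hb]
      show y (contract l B (TensorProduct.comm k A B f)) = 0
      rw [key, hfy, map_smul, show l _ = 0 from hl, smul_zero]
    | zero => simp
    | add a b _ _ ha hb => rw [map_add, ha, hb, add_zero]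
    | smul c a _ h => rw [smul_eq_mul, map_mul, h, mul_zero]
  obtain ⟨v, hv⟩ : ∃ v, J v = ⊥ := by
    by_contra hne
    push Not at hne
    choose p hp hp0 using fun v => Submodule.exists_mem_ne_zero_of_ne_bot (hne v)
    have hprod : ∏ v ∈ V, p v ≠ 0 := Finset.prod_ne_zero_iff.mpr fun v _ => hp0 v
    obtain ⟨y, hy⟩ := Groth.VarietyBC.exists_algHom_ne_zero (k := k) (fun h => hprod h.eq_zero)
    have hyV : Ψ (fy y) ∈ V := by rw [← Finset.mem_coe, hV]; exact hmem y
    exact hy (by rw [map_prod]; exact Finset.prod_eq_zero hyV (hJ y _ (hp _)))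
  obtain ⟨l₀, hl₀⟩ : ∃ l : A →ₗ[k] k, l (g v : A) = 1 := by
    obtain ⟨l, hl⟩ := Module.Projective.exists_dual_ne_zero k (g v).ne_zero
    exact ⟨(l (g v : A))⁻¹ • l, by simp [hl]⟩
  let h : B := contract l₀ B (TensorProduct.comm k A B f)
  have hfh : (f : A ⊗[k] B) = (g v : A) ⊗ₜ[k] h := by
    apply (TensorProduct.comm k A B).injective
    rw [← sub_eq_zero]
    refine eq_zero_of_contract _ fun l => ?_
    have hker : l - l (g v : A) • l₀ ∈ {l : A →ₗ[k] k | l (g v : A) = 0} := by simp [hl₀]
    have h0 : contract (l - l (g v : A) • l₀) B (TensorProduct.comm k A B f) = 0 := by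
      have hm : _ ∈ J v := Ideal.subset_span (Set.mem_image_of_mem _ hker)
      rw [hv] at hm
      exact hm
    have hlin : ∀ (l' : A →ₗ[k] k) (c : k) (z : B ⊗[k] A),
        contract (l - c • l') B z = contract l B z - c • contract l' B z := by
      intro l' c z
      simp [contract, LinearMap.lTensor_sub, LinearMap.lTensor_smul]
    rw [hlin, sub_eq_zero] at h0
    rw [map_sub, h0, TensorProduct.comm_tmul, sub_eq_zero]
    simp [contract, h]
  have hu : IsUnit h := by
    obtain ⟨x, -⟩ := Groth.VarietyBC.exists_algHom_ne_zero (k := k)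
      (a := (1 : A)) (fun hn => one_ne_zero hn.eq_zero)
    have h1 := f.isUnit.map (Groth.VarietyBC.evalAt (B := B) x)
    rw [hfh] at h1
    have h2 : Groth.VarietyBC.evalAt x ((g v : A) ⊗ₜ[k] h) = x (g v : A) • h := by
      simp [Groth.VarietyBC.evalAt]
    rw [h2, Algebra.smul_def] at h1
    exact isUnit_of_mul_isUnit_right h1
  exact ⟨g v, hu.unit, hfh⟩

end Groth.AlgGrp2
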