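/- Units on varieties over an algebraically closed field (helper57). -/
import Mathlib
import Groth.Agent.S1582
import Groth.Agent.AlgGrp2.UnitsAlg
import Groth.Agent.AlgGrp1.Geom
import Groth.Agent.AlgGrp1.Basic

set_option autoImplicit false
set_option linter.style.haveILetI false

universe u

open CategoryTheory CategoryTheory.Limits MonoidalCategory CartesianMonoidalCategory AlgebraicGeometry
open scoped TensorProduct

noncomputable section

namespace Groth.AlgGrp2.UnitsVar

variable {k : Type u} [Field k]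

local notation "S₀" => Spec (CommRingCat.of k)

variable (k) in
/-- The affine test object of a `k`-algebra. -/
abbrev tst (R : Type u) [CommRing R] [Algebra k R] : Over S₀ :=
  Over.mk (Spec.map (CommRingCat.ofHom (algebraMap k R)))

variable {R R' R'' : Type u} [CommRing R] [Algebra k R] [CommRing R'] [Algebra k R'] [CommRing R'']
  [Algebra k R'']

/-- The morphism of test objects of an algebra map. -/
def tstMap (φ : R →ₐ[k] R') : tst k R' ⟶ tst k R :=
  Over.homMk (Spec.map (CommRingCat.ofHom φ.toRingHom)) (by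
    show Spec.map _ ≫ Spec.map _ = Spec.map _
    rw [← Spec.map_comp, ← CommRingCat.ofHom_comp]
    congr 2
    exact φ.comp_algebraMap)

lemma tstMap_comp (φ : R →ₐ[k] R') (ψ : R' →ₐ[k] R'') :
    tstMap ψ ≫ tstMap φ = tstMap (ψ.comp φ) := by
  ext1
  exact (Spec.map_comp _ _).symm

lemma tstMap_id : tstMap (AlgHom.id k R) = 𝟙 (tst k R) := by
  ext1
  exact Spec.map_id _

/-- The value of a global function at a point. -/
def val {X : Over S₀} (x : tst k R ⟶ X) : Γ(X.left, ⊤) →+* R :=
  (x.left.appTop ≫ (Scheme.ΓSpecIso (CommRingCat.of R)).hom).hom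

lemma val_tstMap {X : Over S₀} (φ : R →ₐ[k] R') (x : tst k R ⟶ X) (f : Γ(X.left, ⊤)) :
    val (tstMap φ ≫ x) f = φ (val x f) :=
  ConcreteCategory.congr_hom
    (Scheme.ΓSpecIso_naturality (CommRingCat.ofHom φ.toRingHom)) (x.left.appTop f)

lemma val_comp {X X' : Over S₀} (x : tst k R ⟶ X) (p : X ⟶ X') (f : Γ(X'.left, ⊤)) :
    val (x ≫ p) f = val x (p.left.appTop f) := rfl

/-- The constant functions. -/
def const (X : Over S₀) : k →+* Γ(X.left, ⊤) :=
  ((Scheme.ΓSpecIso (CommRingCat.of k)).inv ≫ X.hom.appTop).hom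

lemma val_const {X : Over S₀} (x : tst k R ⟶ X) (c : k) : val x (const X c) = algebraMap k R c := by
  have h := congrArg (fun m : _ ⟶ S₀ => m.appTop) (Over.w x)
  simp only [Scheme.Hom.comp_appTop] at h
  have h1 := ConcreteCategory.congr_hom h ((Scheme.ΓSpecIso (CommRingCat.of k)).inv c)
  refine (congrArg (Scheme.ΓSpecIso (CommRingCat.of R)).hom h1).trans ?_
  refine (ConcreteCategory.congr_hom
    (Scheme.ΓSpecIso_naturality (CommRingCat.ofHom (algebraMap k R)))
    ((Scheme.ΓSpecIso (CommRingCat.of k)).inv c)).trans ?_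
  exact congrArg (algebraMap k R) (ConcreteCategory.congr_hom (Scheme.ΓSpecIso (CommRingCat.of k)).inv_hom_id c)

lemma appTop_const {X X' : Over S₀} (p : X ⟶ X') (c : k) :
    p.left.appTop (const X' c) = const X c := by
  have h := congrArg (fun m : _ ⟶ S₀ => m.appTop) (Over.w p)
  simp only [Scheme.Hom.comp_appTop] at h
  exact ConcreteCategory.congr_hom h _

variable (k) in
/-- The base point. -/
def base : 𝟙_ (Over S₀) ⟶ tst k k :=
  Over.homMk (𝟙 _) ((Category.id_comp _).trans (Spec.map_id _))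

lemma toUnit_base : toUnit (tst k R) ≫ base k = tstMap (Algebra.ofId k R) := by
  ext1
  exact Category.comp_id _

lemma appTop_injective {W Z : Scheme.{u}} [IsIntegral Z] (q : W ⟶ Z) [IsOpenImmersion q] [Nonempty W] :
    Function.Injective q.appTop := by
  rw [← q.isoOpensRange_hom_ι, Scheme.Hom.comp_appTop]
  haveI : IsIso q.isoOpensRange.hom.appTop := inferInstanceAs (IsIso (q.isoOpensRange.hom.app ⊤))
  refine (ConcreteCategory.bijective_of_isIso q.isoOpensRange.hom.appTop).1.comp ?_
  haveI : Nonempty (q.opensRange.ι ''ᵁ ⊤ : Z.Opens) := by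
    obtain ⟨w⟩ := (inferInstance : Nonempty W)
    exact ⟨⟨q w, by simp⟩⟩
  rw [Scheme.Opens.ι_appTop]
  exact map_injective_of_isIntegral Z _

section Chart

/-- An affine chart of a variety. -/
structure Chart (X : Over S₀) where
  A : Type u
  [ring : CommRing A]
  [alg : Algebra k A]
  [dom : IsDomain A]
  [ft : Algebra.FiniteType k A]
  map : tst k A ⟶ X
  [imm : IsOpenImmersion map.left]

attribute [instance] Chart.ring Chart.alg Chart.dom Chart.ft Chart.imm

lemma exists_chart (X : Over S₀) [IsIntegral X.left] [LocallyOfFiniteType X.hom] :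
    Nonempty (Chart (k := k) X) := by
  obtain ⟨x⟩ := (inferInstance : Nonempty X.left)
  obtain ⟨_, ⟨U, hU, rfl⟩, hxU, -⟩ :=
    X.left.isBasis_affineOpens.exists_subset_of_mem_open (Set.mem_univ x) isOpen_univ
  replace hU : IsAffineOpen U := hU
  haveI : IsOpenImmersion hU.fromSpec := IsAffineOpen.isOpenImmersion_fromSpec hU
  haveI : Nonempty U := ⟨⟨x, hxU⟩⟩
  obtain ⟨ψ, hψ⟩ : ∃ ψ, Spec.map ψ = IsAffineOpen.fromSpec hU ≫ X.hom := ⟨_, Spec.map_preimage _⟩
  letI : Algebra k Γ(X.left, U) := RingHom.toAlgebra (R := k) ψ.hom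
  haveI : Algebra.FiniteType k Γ(X.left, U) := by
    have h : LocallyOfFiniteType (Spec.map ψ) := by rw [hψ]; infer_instance
    exact (HasRingHomProperty.Spec_iff (P := @LocallyOfFiniteType)).mp h
  exact ⟨@Chart.mk _ _ X Γ(X.left, U) _ _ inferInstance inferInstance
    (Over.homMk (IsAffineOpen.fromSpec hU) hψ.symm) (inferInstanceAs (IsOpenImmersion hU.fromSpec))⟩

variable {X Y : Over (Spec (CommRingCat.of k))}

/-- The product of two charts. -/
def Chart.prod (c : Chart (k := k) X) (d : Chart (k := k) Y) : tst k (c.A ⊗[k] d.A) ⟶ X ⊗ Y :=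
  lift (tstMap (Algebra.TensorProduct.includeLeft (S := k)) ≫ c.map)
    (tstMap (Algebra.TensorProduct.includeRight (R := k)) ≫ d.map)

lemma isOpenImmersion_tensorHom {A B X Y : Over (Spec (CommRingCat.of k))} (a : A ⟶ X) (b : B ⟶ Y)
    [IsOpenImmersion a.left] [IsOpenImmersion b.left] : IsOpenImmersion (a ⊗ₘ b).left := by
  rw [Over.tensorHom_left]
  infer_instance

lemma isIso_lift_tst (A B : Type u) [CommRing A] [Algebra k A] [CommRing B] [Algebra k B] :
    IsIso (lift (tstMap (Algebra.TensorProduct.includeLeft (S := k) : A →ₐ[k] A ⊗[k] B))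
      (tstMap (Algebra.TensorProduct.includeRight (R := k) : B →ₐ[k] A ⊗[k] B))).left := by
  have h : (lift (tstMap (Algebra.TensorProduct.includeLeft (S := k) : A →ₐ[k] A ⊗[k] B))
      (tstMap (Algebra.TensorProduct.includeRight (R := k) : B →ₐ[k] A ⊗[k] B))).left =
      (pullbackSpecIso k A B).inv := by
    apply pullback.hom_ext
    · refine (congrArg CommaMorphism.left (lift_fst (tstMap (Algebra.TensorProduct.includeLeft (S := k) : A →ₐ[k] A ⊗[k] B))
        (tstMap (Algebra.TensorProduct.includeRight (R := k) : B →ₐ[k] A ⊗[k] B)))).trans ?_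
      exact (pullbackSpecIso_inv_fst k A B).symm
    · refine (congrArg CommaMorphism.left (lift_snd (tstMap (Algebra.TensorProduct.includeLeft (S := k) : A →ₐ[k] A ⊗[k] B))
        (tstMap (Algebra.TensorProduct.includeRight (R := k) : B →ₐ[k] A ⊗[k] B)))).trans ?_
      exact (pullbackSpecIso_inv_snd k A B).symm
  rw [h]
  infer_instance

lemma isOpenImmersion_prod (c : Chart (k := k) X) (d : Chart (k := k) Y) :
    IsOpenImmersion (Chart.prod (k := k) c d).left := by
  rw [Chart.prod, ← lift_map, Over.comp_left]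
  haveI := isIso_lift_tst (k := k) c.A d.A
  haveI := isOpenImmersion_tensorHom c.map d.map
  infer_instance

end Chart

variable [IsAlgClosed k]

/-- Every unit on a product of varieties is a product of units. -/
theorem exists_mul_eq (X Y : Over S₀) [IsIntegral X.left] [IsSeparated X.hom]
    [LocallyOfFiniteType X.hom] [QuasiCompact X.hom] [IsIntegral Y.left] [IsSeparated Y.hom]
    [LocallyOfFiniteType Y.hom] [QuasiCompact Y.hom] (f : Γ((X ⊗ Y).left, ⊤)) (hf : IsUnit f) :
    ∃ (g : Γ(X.left, ⊤)) (h : Γ(Y.left, ⊤)), IsUnit g ∧ IsUnit h ∧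
      f = (fst X Y).left.appTop g * (snd X Y).left.appTop h := by
  haveI : IsIntegral (X ⊗ Y).left := Groth.Agent.S1582.result k X.left Y.left X.hom Y.hom
  obtain ⟨c⟩ := exists_chart X
  obtain ⟨d⟩ := exists_chart Y
  haveI := Groth.VarietyBC.isDomain_tensor (k := k) (A := c.A) (B := d.A)
  obtain ⟨φ, -⟩ := Groth.VarietyBC.exists_algHom_ne_zero (k := k)
    (a := (1 : c.A)) (fun hn => one_ne_zero hn.eq_zero)
  obtain ⟨ψ, -⟩ := Groth.VarietyBC.exists_algHom_ne_zero (k := k)
    (a := (1 : d.A)) (fun hn => one_ne_zero hn.eq_zero)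
  let q : tst k (c.A ⊗[k] d.A) ⟶ X ⊗ Y := Chart.prod (k := k) c d
  obtain ⟨g0, h0, hgh⟩ := unit_tensor_eq_tmul k c.A d.A (hf.map (val q)).unit
  rw [IsUnit.unit_spec] at hgh
  let x0 : 𝟙_ (Over S₀) ⟶ X := base k ≫ tstMap φ ≫ c.map
  let y0 : 𝟙_ (Over S₀) ⟶ Y := base k ≫ tstMap ψ ≫ d.map
  let sX : X ⟶ X ⊗ Y := lift (𝟙 X) (toUnit X ≫ y0)
  let sY : Y ⟶ X ⊗ Y := lift (toUnit Y ≫ x0) (𝟙 Y)
  have hX : c.map ≫ sX = tstMap ((Algebra.TensorProduct.rid k k c.A).toAlgHom.comp
      (Algebra.TensorProduct.map (AlgHom.id k c.A) ψ)) ≫ q := by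
    simp only [sX, q, Chart.prod, comp_lift, Category.comp_id, y0]
    rw [← Category.assoc c.map, comp_toUnit, ← Category.assoc (toUnit _) (base k), toUnit_base,
      ← Category.assoc, ← Category.assoc, ← Category.assoc, tstMap_comp, tstMap_comp, tstMap_comp]
    congr 3
    · conv_lhs => rw [← Category.id_comp c.map, ← tstMap_id]
      congr 2
      ext a; simp
    · ext b; simp [Algebra.algebraMap_eq_smul_one]
  have hY : d.map ≫ sY = tstMap ((Algebra.TensorProduct.lid k d.A).toAlgHom.comp
      (Algebra.TensorProduct.map φ (AlgHom.id k d.A))) ≫ q := by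
    simp only [sY, q, Chart.prod, comp_lift, Category.comp_id, x0]
    rw [← Category.assoc d.map, comp_toUnit, ← Category.assoc (toUnit _) (base k), toUnit_base,
      ← Category.assoc, ← Category.assoc, ← Category.assoc, tstMap_comp, tstMap_comp, tstMap_comp]
    congr 3
    · ext a; simp [Algebra.algebraMap_eq_smul_one]
    · conv_lhs => rw [← Category.id_comp d.map, ← tstMap_id]
      congr 2
      ext b; simp
  let e : k := φ g0 * ψ h0
  have he : e ≠ 0 := mul_ne_zero (g0.isUnit.map φ).ne_zero (h0.isUnit.map ψ).ne_zero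
  refine ⟨sX.left.appTop f, sY.left.appTop f * const Y e⁻¹, hf.map sX.left.appTop.hom,
    (hf.map sY.left.appTop.hom).mul ((IsUnit.mk0 _ (inv_ne_zero he)).map (const Y)), ?_⟩
  haveI : Nonempty (tst k (c.A ⊗[k] d.A)).left :=
    inferInstanceAs (Nonempty (PrimeSpectrum (c.A ⊗[k] d.A)))
  have hq : Function.Injective (val q) := by
    haveI : IsOpenImmersion q.left := isOpenImmersion_prod (k := k) c d
    have h1 := appTop_injective q.left
    exact (ConcreteCategory.bijective_of_isIso
      (Scheme.ΓSpecIso (CommRingCat.of (c.A ⊗[k] d.A))).hom).1.comp h1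
  apply hq
  rw [map_mul, ← val_comp q (fst X Y), ← val_comp q (snd X Y),
    show q ≫ fst X Y = tstMap (Algebra.TensorProduct.includeLeft (S := k)) ≫ c.map from lift_fst _ _,
    show q ≫ snd X Y = tstMap (Algebra.TensorProduct.includeRight (R := k)) ≫ d.map from lift_snd _ _,
    val_tstMap, val_tstMap, map_mul, val_const, ← val_comp, ← val_comp, hX, hY, val_tstMap,
    val_tstMap, hgh]
  show _ = _
  simp only [AlgHom.comp_apply, Algebra.TensorProduct.map_tmul, AlgEquiv.coe_toAlgHom,
    Algebra.TensorProduct.rid_tmul, Algebra.TensorProduct.lid_tmul, AlgHom.coe_id, id_eq,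
    Algebra.algebraMap_eq_smul_one, smul_mul_assoc, one_mul, mul_smul_comm, mul_one,
    Algebra.TensorProduct.includeLeft_apply, Algebra.TensorProduct.includeRight_apply,
    Algebra.TensorProduct.tmul_mul_tmul, TensorProduct.tmul_smul, TensorProduct.smul_tmul',
    smul_smul]
  rw [show e⁻¹ * φ g0 * ψ h0 = 1 by rw [mul_assoc]; exact inv_mul_cancel₀ he, one_smul]

end Groth.AlgGrp2.UnitsVar
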