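/- Units on connected algebraic groups are constants times characters (helper57). -/
import Mathlib
import Groth.Agent.AlgGrp2.Units
import Groth.Agent.AlgGrp2.Basic

set_option autoImplicit false
set_option linter.style.haveILetI false

universe u

open CategoryTheory CategoryTheory.Limits MonoidalCategory CartesianMonoidalCategory AlgebraicGeometry
open MonObj

noncomputable section

namespace Groth.AlgGrp2.UnitsVar

variable {k : Type u} [Field k]

/-- Pullback of global functions. -/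
def pb {X Y : Over (Spec (CommRingCat.of k))} (p : X ⟶ Y) : Γ(Y.left, ⊤) →+* Γ(X.left, ⊤) :=
  p.left.appTop.hom

lemma pb_comp {X Y Z : Over (Spec (CommRingCat.of k))} (p : X ⟶ Y) (q : Y ⟶ Z) (f : Γ(Z.left, ⊤)) :
    pb (p ≫ q) f = pb p (pb q f) := rfl

lemma pb_id {X : Over (Spec (CommRingCat.of k))} (f : Γ(X.left, ⊤)) : pb (𝟙 X) f = f := rfl

lemma pb_congr_toUnit {X Y : Over (Spec (CommRingCat.of k))} (p : X ⟶ Y)
    (c : Γ((𝟙_ (Over (Spec (CommRingCat.of k)))).left, ⊤)) :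
    pb p (pb (toUnit Y) c) = pb (toUnit X) c := by
  rw [← pb_comp, comp_toUnit]

variable [IsAlgClosed k]

theorem character_of_unit (G : Over (Spec (CommRingCat.of k))) [GrpObj G] [Smooth G.hom]
    [QuasiCompact G.hom] [ConnectedSpace ↥G.left]
    (f : Γ(G.left, ⊤)) (hf : IsUnit f) (he : pb η[G] f = 1) :
    pb μ[G] f = pb (fst G G) f * pb (snd G G) f := by
  haveI := Groth.AlgGrp1.isIntegral_of_smooth G
  haveI := Groth.AlgGrp1.isSeparated_grpObj G
  obtain ⟨g, h, -, -, hfgh⟩ := exists_mul_eq G G (pb μ[G] f) (hf.map _)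
  change pb μ[G] f = pb (fst G G) g * pb (snd G G) h at hfgh
  have e1 : f = g * pb (toUnit G) (pb η[G] h) := by
    have := congrArg (pb (lift (𝟙 G) (toUnit G ≫ η[G]))) hfgh
    simpa only [map_mul, ← pb_comp, lift_fst, lift_snd, pb_id,
      lift_comp_one_right] using this
  have e2 : f = pb (toUnit G) (pb η[G] g) * h := by
    have := congrArg (pb (lift (toUnit G ≫ η[G]) (𝟙 G))) hfgh
    simpa only [map_mul, ← pb_comp, lift_fst, lift_snd, pb_id,
      lift_comp_one_left] using this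
  have e3 : pb η[G] g * pb η[G] h = 1 := by
    have := congrArg (pb η[G]) e1
    rw [map_mul, he, pb_congr_toUnit, toUnit_unique (toUnit _) (𝟙 _), pb_id] at this
    exact this.symm
  have e3' : pb (toUnit (G ⊗ G)) (pb η[G] g) * pb (toUnit (G ⊗ G)) (pb η[G] h) = 1 := by
    rw [← map_mul, e3, map_one]
  have a1 := congrArg (pb (fst G G)) e1
  have a2 := congrArg (pb (snd G G)) e2
  simp only [map_mul, pb_congr_toUnit] at a1 a2
  rw [hfgh, a1, a2]
  linear_combination (-(pb (fst G G) g * pb (snd G G) h)) * e3'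

theorem exists_character_mul (G X : Over (Spec (CommRingCat.of k))) [GrpObj G] [Smooth G.hom]
    [QuasiCompact G.hom] [ConnectedSpace ↥G.left] [IsIntegral X.left] [IsSeparated X.hom]
    [LocallyOfFiniteType X.hom] [QuasiCompact X.hom]
    (f : Γ((G ⊗ X).left, ⊤)) (hf : IsUnit f) :
    ∃ (χ : Γ(G.left, ⊤)) (u : Γ(X.left, ⊤)), IsUnit χ ∧ pb η[G] χ = 1 ∧
      pb μ[G] χ = pb (fst G G) χ * pb (snd G G) χ ∧ IsUnit u ∧
      f = pb (fst G X) χ * pb (snd G X) u := by
  haveI := Groth.AlgGrp1.isIntegral_of_smooth G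
  haveI := Groth.AlgGrp1.isSeparated_grpObj G
  obtain ⟨g, h, hg, hh, hfgh⟩ := exists_mul_eq G X f hf
  change f = pb (fst G X) g * pb (snd G X) h at hfgh
  obtain ⟨c, hc⟩ := hg.map (pb η[G])
  have hχe : pb η[G] (g * pb (toUnit G) ((c⁻¹ : _ˣ) : Γ((𝟙_ (Over (Spec (CommRingCat.of k)))).left, ⊤))) = 1 := by
    rw [map_mul, pb_congr_toUnit, toUnit_unique (toUnit _) (𝟙 _), pb_id, ← hc, Units.mul_inv]
  have hχu : IsUnit (g * pb (toUnit G) ((c⁻¹ : _ˣ) : Γ((𝟙_ (Over (Spec (CommRingCat.of k)))).left, ⊤))) :=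
    hg.mul ((c⁻¹).isUnit.map _)
  refine ⟨_, h * pb (toUnit X) c, hχu, hχe, character_of_unit G _ hχu hχe,
    hh.mul (c.isUnit.map _), ?_⟩
  rw [map_mul, map_mul, pb_congr_toUnit, pb_congr_toUnit, hfgh]
  have : pb (toUnit (G ⊗ X)) ((c⁻¹ : _ˣ) : Γ((𝟙_ (Over (Spec (CommRingCat.of k)))).left, ⊤)) *
      pb (toUnit (G ⊗ X)) c = 1 := by
    rw [← map_mul, Units.inv_mul, map_one]
  linear_combination (-(pb (fst G X) g * pb (snd G X) h)) * this

theorem existsUnique_character (G X : Over (Spec (CommRingCat.of k))) [GrpObj G] [Smooth G.hom]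
    [QuasiCompact G.hom] [ConnectedSpace ↥G.left] [IsIntegral X.left] [IsSeparated X.hom]
    [LocallyOfFiniteType X.hom] [QuasiCompact X.hom] (a : AlgGrp.Action G X)
    (f : Γ(X.left, ⊤)) (hf : IsUnit f) :
    ∃! χ : Γ(G.left, ⊤), IsUnit χ ∧ pb η[G] χ = 1 ∧
      pb μ[G] χ = pb (fst G G) χ * pb (snd G G) χ ∧
      pb a.act f = pb (fst G X) χ * pb (snd G X) f := by
  obtain ⟨χ, u, hχ, hχe, hχm, -, hfu⟩ := exists_character_mul G X (pb a.act f) (hf.map _)
  have hu : f = u := by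
    have := congrArg (pb (lift (1 : X ⟶ G) (𝟙 X))) hfu
    rw [map_mul, ← pb_comp, ← pb_comp, ← pb_comp, Groth.AlgGrp2.lift_one_act, lift_fst, lift_snd,
      pb_id, pb_id] at this
    rw [this, show (1 : X ⟶ G) = toUnit X ≫ η[G] from rfl, pb_comp, hχe, map_one, _root_.one_mul]
  subst hu
  refine ⟨χ, ⟨hχ, hχe, hχm, hfu⟩, ?_⟩
  rintro χ' ⟨-, -, -, hfu'⟩
  obtain ⟨c⟩ := exists_chart X
  obtain ⟨φ, -⟩ := Groth.VarietyBC.exists_algHom_ne_zero (k := k)
    (a := (1 : c.A)) (fun hn => one_ne_zero hn.eq_zero)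
  let x0 : 𝟙_ (Over (Spec (CommRingCat.of k))) ⟶ X := base k ≫ tstMap φ ≫ c.map
  have := congrArg (pb (lift (𝟙 G) (toUnit G ≫ x0))) (hfu'.symm.trans hfu)
  simp only [map_mul, ← pb_comp, lift_fst, lift_snd, pb_id] at this
  exact (hf.map (pb (toUnit G ≫ x0))).mul_left_inj.mp this

end Groth.AlgGrp2.UnitsVar
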